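import Groth.Agent.NoriLib.Translate
import Groth.Prelude.Def_NoriFGS
import Groth.Prelude.Def_Coh
import Mathlib.AlgebraicGeometry.AffineTransitionLimit
import Mathlib.CategoryTheory.Limits.Constructions.Over.Connected

/-!
# Pointed torsors classified by homomorphisms out of the fundamental group scheme
-/

set_option autoImplicit false
set_option backward.isDefEq.respectTransparency false

universe u

open CategoryTheory CategoryTheory.Limits MonoidalCategory CartesianMonoidalCategory MonObj GrpObj AlgebraicGeometry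

namespace Groth.Agent.NoriLib

variable {k : Type u} [Field k]

section ProFinite

variable {πN : Over (Spec (CommRingCat.of k))} [GrpObj πN]

/-- The underlying schemes of a pro-finite presentation form a limit cone. -/
noncomputable def isLimitLeft (p : NoriFGS.ProFinPres πN) :
    letI := p.cat
    IsLimit ((Over.forget _).mapCone (Cone.mk πN p.π)) :=
  letI := p.cat
  haveI := p.cofiltered
  haveI : IsConnected p.I := IsCofiltered.isConnected p.I
  isLimitOfPreserves _ p.isLimit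

theorem isAffine_proFinite (h : NoriFGS.IsProFinite πN) : IsAffine πN.left := by
  obtain ⟨p⟩ := h
  letI := p.cat
  haveI := p.cofiltered
  haveI : ∀ i, IsAffine ((p.D ⋙ Over.forget _).obj i) := fun i => by
    haveI := p.finite i
    exact isAffine_of_isAffineHom (p.D.obj i).hom
  exact Scheme.isAffine_of_isLimit _ (isLimitLeft p)

theorem isAffineHom_proFinite (h : NoriFGS.IsProFinite πN) : IsAffineHom πN.hom := by
  haveI := isAffine_proFinite h
  exact isAffineHom_of_isAffine _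

/-- Every function on a pro-finite group scheme comes from a finite quotient. -/
theorem exists_finite_level (h : NoriFGS.IsProFinite πN) (f : Γ(πN.left, ⊤)) :
    ∃ (G : Over (Spec (CommRingCat.of k))) (_ : GrpObj G) (_ : IsFinite G.hom) (π : πN ⟶ G) (_ : IsMonHom π)
      (t : Γ(G.left, ⊤)), π.left.appTop t = f := by
  obtain ⟨p⟩ := h
  letI := p.cat
  haveI := p.cofiltered
  haveI : ∀ i, IsAffine ((p.D ⋙ Over.forget _).obj i) := fun i => by
    haveI := p.finite i
    exact isAffine_of_isAffineHom (p.D.obj i).hom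
  obtain ⟨i, t, ht⟩ := exists_appTop_π_eq_of_isAffine_of_isLimit _ _ (isLimitLeft p) f
  exact ⟨p.D.obj i, p.grp i, p.finite i, p.π.app i, p.isMonHom_π i, t, ht⟩

/-- Homomorphisms into a pro-finite group scheme are determined at finite levels. -/
theorem ext_finite_level (h : NoriFGS.IsProFinite πN) {T : Over (Spec (CommRingCat.of k))} {a b : T ⟶ πN}
    (hab : ∀ (G : Over (Spec (CommRingCat.of k))) [GrpObj G] [IsFinite G.hom] (π : πN ⟶ G) [IsMonHom π],
      a ≫ π = b ≫ π) : a = b := by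
  obtain ⟨p⟩ := h
  letI := p.cat
  refine p.isLimit.hom_ext fun i => ?_
  haveI := p.finite i
  haveI := p.isMonHom_π i
  letI := p.grp i
  exact hab (p.D.obj i) (p.π.app i)

end ProFinite

/-- The dimension of the algebra of functions. -/
noncomputable def rk (G : Over (Spec (CommRingCat.of k))) : ℕ :=
  @Module.finrank k (Coh.Γtop G.left) _ _ (Module.compHom (Coh.Γtop G.left) (Coh.toGlobal G.hom))

theorem toGlobal_comp {H' H : Over (Spec (CommRingCat.of k))} (i : H' ⟶ H) (c : k) :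
    i.left.appTop (Coh.toGlobal H.hom c) = Coh.toGlobal H'.hom c := by
  show (H.hom.appTop ≫ i.left.appTop) _ = H'.hom.appTop _
  rw [← Scheme.Hom.comp_appTop, Over.w i]

/-- The pullback of functions, as a linear map. -/
noncomputable def pullLin {H' H : Over (Spec (CommRingCat.of k))} (i : H' ⟶ H) :
    letI := Module.compHom (Coh.Γtop H.left) (Coh.toGlobal H.hom)
    letI := Module.compHom (Coh.Γtop H'.left) (Coh.toGlobal H'.hom)
    Coh.Γtop H.left →ₗ[k] Coh.Γtop H'.left :=
  letI := Module.compHom (Coh.Γtop H.left) (Coh.toGlobal H.hom)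
  letI := Module.compHom (Coh.Γtop H'.left) (Coh.toGlobal H'.hom)
  { toFun := fun f => i.left.appTop f
    map_add' := fun a b => map_add i.left.appTop.hom a b
    map_smul' := fun c a => by
      exact (map_mul i.left.appTop.hom (Coh.toGlobal H.hom c) a).trans (congrArg (· * i.left.appTop.hom a) (toGlobal_comp i c)) }

theorem finite_functions (G : Over (Spec (CommRingCat.of k))) [IsFinite G.hom] :
    @Module.Finite k (Coh.Γtop G.left) _ _ (Module.compHom (Coh.Γtop G.left) (Coh.toGlobal G.hom)) := by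
  have h : @RingHom.Finite k Γ(G.left, ⊤) _ _ (Coh.toGlobal G.hom) :=
    RingHom.Finite.comp G.hom.finite_appTop
      (RingHom.Finite.of_surjective _ (ConcreteCategory.bijective_of_isIso (Scheme.ΓSpecIso _).inv).2)
  exact h

theorem rk_le_of_isClosedImmersion {H' H : Over (Spec (CommRingCat.of k))} [IsFinite H.hom] (i : H' ⟶ H)
    [IsClosedImmersion i.left] : rk H' ≤ rk H ∧ (rk H' = rk H → IsIso i) := by
  haveI : IsFinite H'.hom := by rw [← Over.w i]; infer_instance
  haveI : IsAffine H.left := isAffine_of_isAffineHom H.hom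
  letI := Module.compHom (Coh.Γtop H.left) (Coh.toGlobal H.hom)
  letI := Module.compHom (Coh.Γtop H'.left) (Coh.toGlobal H'.hom)
  haveI := finite_functions H
  haveI := finite_functions H'
  have hs : Function.Surjective (pullLin i) := (IsClosedImmersion.isAffine_surjective_of_isAffine i.left).2
  refine ⟨LinearMap.finrank_le_finrank_of_surjective hs, fun e => ?_⟩
  have hinj : Function.Injective (pullLin i) :=
    (LinearMap.injective_iff_surjective_of_finrank_eq_finrank e.symm).mpr hs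
  haveI : IsIso i.left := IsClosedImmersion.isIso_of_injective_of_isAffine hinj
  haveI : IsIso ((Over.forget _).map i) := ‹IsIso i.left›
  exact isIso_of_reflects_iso i (Over.forget _)

variable {πN G : Over (Spec (CommRingCat.of k))} [GrpObj πN] [GrpObj G]

/-- No proper closed subgroup receives the homomorphism. -/
def IsMinimal {H : Over (Spec (CommRingCat.of k))} [GrpObj H] (ρ : πN ⟶ H) : Prop :=
  ∀ (K : Over (Spec (CommRingCat.of k))) [GrpObj K] (i : K ⟶ H) [IsMonHom i] [IsClosedImmersion i.left]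
    (ρ' : πN ⟶ K) [IsMonHom ρ'], ρ' ≫ i = ρ → IsIso i

/-- A homomorphism to a finite group has a smallest closed subgroup through which it factors. -/
theorem exists_minimal [IsFinite G.hom] (φ : πN ⟶ G) [IsMonHom φ] :
    ∃ (H : Over (Spec (CommRingCat.of k))) (_ : GrpObj H) (_ : IsFinite H.hom) (ρ : πN ⟶ H) (_ : IsMonHom ρ)
      (i : H ⟶ G) (_ : IsMonHom i) (_ : IsClosedImmersion i.left), ρ ≫ i = φ ∧ IsMinimal ρ := by
  classical
  have hex : ∃ n : ℕ, ∃ (H : Over (Spec (CommRingCat.of k))) (_ : GrpObj H) (ρ : πN ⟶ H) (_ : IsMonHom ρ)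
      (i : H ⟶ G) (_ : IsMonHom i) (_ : IsClosedImmersion i.left), ρ ≫ i = φ ∧ rk H = n :=
    ⟨rk G, G, inferInstance, φ, inferInstance, 𝟙 G, inferInstance, inferInstanceAs (IsClosedImmersion (𝟙 G.left)),
      Category.comp_id _, rfl⟩
  obtain ⟨H, instH, ρ, hρ, i, hi, hic, he, hn⟩ := Nat.find_spec hex
  haveI : IsFinite H.hom := by rw [← Over.w i]; infer_instance
  refine ⟨H, instH, ‹_›, ρ, hρ, i, hi, hic, he, ?_⟩
  intro K _ j _ _ ρ' _ hj
  haveI : IsClosedImmersion (j ≫ i).left := inferInstanceAs (IsClosedImmersion (j.left ≫ i.left))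
  obtain ⟨h1, h2⟩ := rk_le_of_isClosedImmersion j
  refine h2 (le_antisymm h1 ?_)
  rw [hn]
  exact Nat.find_min' hex ⟨K, inferInstance, ρ', inferInstance, j ≫ i, inferInstance, inferInstance,
    by rw [← Category.assoc, hj, he], rfl⟩

variable {X : Scheme.{u}} [X.Over (Spec (CommRingCat.of k))] {x : Spec (CommRingCat.of k) ⟶ X}

/-- Morphisms of pointed torsors compose. -/
theorem isPtTorsorHom_comp {G₁ G₂ G₃ : Over (Spec (CommRingCat.of k))} [GrpObj G₁] [GrpObj G₂] [GrpObj G₃]
    {T₁ T₂ T₃ : Over X} {b₁ : AlgGrp.Action (Red.bc (X ↘ Spec (CommRingCat.of k)) G₁) T₁}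
    {b₂ : AlgGrp.Action (Red.bc (X ↘ Spec (CommRingCat.of k)) G₂) T₂}
    {b₃ : AlgGrp.Action (Red.bc (X ↘ Spec (CommRingCat.of k)) G₃) T₃}
    {t₁ : Spec (CommRingCat.of k) ⟶ T₁.left} {t₂ : Spec (CommRingCat.of k) ⟶ T₂.left}
    {t₃ : Spec (CommRingCat.of k) ⟶ T₃.left} {φ : G₁ ⟶ G₂} [IsMonHom φ] {ψ : G₂ ⟶ G₃} [IsMonHom ψ]
    {f : T₁ ⟶ T₂} {g : T₂ ⟶ T₃} (hf : NoriFGS.IsPtTorsorHom b₁ t₁ b₂ t₂ φ f)
    (hg : NoriFGS.IsPtTorsorHom b₂ t₂ b₃ t₃ ψ g) : NoriFGS.IsPtTorsorHom b₁ t₁ b₃ t₃ (φ ≫ ψ) (f ≫ g) := by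
  refine ⟨?_, ?_⟩
  · have h1 := hf.1
    have h2 := hg.1
    unfold AlgGrp.Action.IsEquivariant at h1 h2 ⊢
    rw [AlgGrp.Action.restrict_act] at h1 h2 ⊢
    rw [← Category.assoc, h1, Category.assoc, Category.assoc, h2, Functor.map_comp]
    simp only [← Category.assoc]
    congr 1
    apply CartesianMonoidalCategory.hom_ext <;> simp
  · rw [Over.comp_left, ← Category.assoc, hf.2, hg.2]

variable (hx : x ≫ (X ↘ Spec (CommRingCat.of k)) = 𝟙 _) {P : Over X}
  {a : AlgGrp.Action (Red.bc (X ↘ Spec (CommRingCat.of k)) πN) P} {p : Spec (CommRingCat.of k) ⟶ P.left}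

include hx in
/-- A pointed torsor whose classifying homomorphism is minimal is Nori-reduced. -/
theorem isNoriReduced_of_minimal (hP : NoriFGS.IsFGS x πN a p)
    {H : Over (Spec (CommRingCat.of k))} [GrpObj H] [IsFinite H.hom] {U : Over X}
    {c : AlgGrp.Action (Red.bc (X ↘ Spec (CommRingCat.of k)) H) U} {u : Spec (CommRingCat.of k) ⟶ U.left}
    (hU : NonAbH1.IsTorsorFor Scheme.fpqcPrecoverage c) (hu : u ≫ U.hom = x)
    {ρ : πN ⟶ H} [IsMonHom ρ] {g : P ⟶ U} (hg : NoriFGS.IsPtTorsorHom a p c u ρ g) (hmin : IsMinimal ρ) :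
    NoriFGS.IsNoriReduced Scheme.fpqcPrecoverage c := by
  intro K _ i _ _ V j _ b hV hj
  obtain ⟨K', _, i', _, _, V', j', b', hj', hV', hj'e, ⟨u', hu'⟩, hiso⟩ :=
    exists_translate (X ↘ Spec (CommRingCat.of k)) x hx i j hU hV hj (Over.homMk u hu)
  haveI : IsFinite K'.hom := by rw [← Over.w i']; infer_instance
  obtain ⟨ρ', _, g', hg', -⟩ := hP.2.2.2 K' V' b' u'.left hV' (Over.w u')
  obtain ⟨ρ₀, _, g₀, -, huniq⟩ := hP.2.2.2 H U c u hU hu
  have h1 : NoriFGS.IsPtTorsorHom b' u'.left c u i' j' := ⟨hj'e, congrArg CommaMorphism.left hu'⟩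
  have e1 := (huniq (ρ' ≫ i') (g' ≫ j') (isPtTorsorHom_comp hg' h1)).1
  have e2 := (huniq ρ g hg).1
  exact hiso (hmin K' i' ρ' (e1.trans e2.symm))

/-- Every homomorphism to a finite group is realised by a pointed Nori-reduced torsor of its image. -/
theorem exists_classify (hP : NoriFGS.IsFGS x πN a p) (hxs : x ≫ (X ↘ Spec (CommRingCat.of k)) = 𝟙 _)
    [IsFinite G.hom] (φ : πN ⟶ G) [IsMonHom φ] :
    ∃ (H : Over (Spec (CommRingCat.of k))) (_ : GrpObj H) (_ : IsFinite H.hom) (ρ : πN ⟶ H) (_ : IsMonHom ρ)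
      (i : H ⟶ G) (_ : IsMonHom i) (_ : IsClosedImmersion i.left) (U : Over X)
      (c : AlgGrp.Action (Red.bc (X ↘ Spec (CommRingCat.of k)) H) U) (u : Spec (CommRingCat.of k) ⟶ U.left)
      (g : P ⟶ U), ρ ≫ i = φ ∧ NonAbH1.IsTorsorFor Scheme.fpqcPrecoverage c ∧ u ≫ U.hom = x ∧
        NoriFGS.IsPtTorsorHom a p c u ρ g ∧ NoriFGS.IsNoriReduced Scheme.fpqcPrecoverage c := by
  obtain ⟨H, _, _, ρ, _, i, hi, hic, he, hmin⟩ := exists_minimal φ
  let s := X ↘ Spec (CommRingCat.of k)
  haveI := isAffineHom_proFinite hP.1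
  haveI : IsAffineHom (Red.bc s πN).hom := MorphismProperty.pullback_snd πN.hom s ‹_›
  haveI : Flat (Red.bc s πN).hom := MorphismProperty.pullback_snd πN.hom s (inferInstanceAs (Flat πN.hom))
  haveI : IsAffineHom (Red.bc s H).hom := MorphismProperty.pullback_snd H.hom s (inferInstanceAs (IsAffineHom H.hom))
  obtain ⟨U, c, g, hU, hg⟩ := exists_push hP.2.1 (show Red.bc s πN ⟶ Red.bc s H from (Over.pullback s).map ρ)
  have hu : (p ≫ g.left) ≫ U.hom = x := by rw [Category.assoc, Over.w g]; exact hP.2.2.1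
  exact ⟨H, inferInstance, inferInstance, ρ, inferInstance, i, hi, hic, U, c, p ≫ g.left, g, he, hU, hu, ⟨hg, rfl⟩,
    isNoriReduced_of_minimal hxs hP hU hu ⟨hg, rfl⟩ hmin⟩

end Groth.Agent.NoriLib
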