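import Groth.Agent.NoriLib.Minimal

/-!
# Homomorphisms from a pro-finite group to an affine algebraic group have finite image
-/

set_option autoImplicit false
set_option backward.isDefEq.respectTransparency false

universe u

open CategoryTheory CategoryTheory.Limits MonoidalCategory CartesianMonoidalCategory MonObj GrpObj AlgebraicGeometry
open Groth.Agent.GrpSchLib
open scoped TensorProduct

namespace Groth.Agent.NoriLib

variable {k : Type u} [Field k]

theorem exists_finite_factor {πN G : Over (Spec (CommRingCat.of k))} [GrpObj πN] [GrpObj G] [IsAffine G.left]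
    [LocallyOfFiniteType G.hom] (h : NoriFGS.IsProFinite πN) (ρ : πN ⟶ G) [IsMonHom ρ] :
    ∃ (H : Over (Spec (CommRingCat.of k))) (_ : GrpObj H) (_ : IsFinite H.hom) (_ : LocallyOfFinitePresentation H.hom)
      (ρ' : πN ⟶ H) (_ : IsMonHom ρ') (i : H ⟶ G) (_ : IsMonHom i) (_ : IsClosedImmersion i.left), ρ' ≫ i = ρ := by
  haveI := isAffine_proFinite h
  obtain ⟨A, _, _, ⟨eA⟩⟩ := AffineHopf.exists_hopf πN
  obtain ⟨B, _, _, ⟨eB⟩⟩ := AffineHopf.exists_hopf G
  let a : AffineHopf.sp k A ≅ πN := (Grp.forget _).mapIso eA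
  let b : AffineHopf.sp k B ≅ G := (Grp.forget _).mapIso eB
  haveI : IsMonHom a.hom := eA.hom.hom.isMonHom_hom
  haveI : IsMonHom a.inv := eA.inv.hom.isMonHom_hom
  haveI : IsMonHom b.hom := eB.hom.hom.isMonHom_hom
  haveI : IsMonHom b.inv := eB.inv.hom.isMonHom_hom
  haveI : IsIso a.hom.left := ((Over.forget _).mapIso a).isIso_hom
  haveI : IsIso b.hom.left := ((Over.forget _).mapIso b).isIso_hom
  haveI : IsIso a.hom.left.appTop := inferInstanceAs (IsIso (Scheme.Γ.map a.hom.left.op))
  haveI : LocallyOfFiniteType (AffineHopf.sp k B).hom := by rw [← Over.w b.hom]; infer_instance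
  haveI : Algebra.FiniteType k B :=
    RingHom.finiteType_algebraMap.mp ((HasRingHomProperty.Spec_iff (P := @LocallyOfFiniteType)).mp ‹_›)
  obtain ⟨φ, hφ⟩ := AffineHopf.exists_bialgHom (a.hom ≫ ρ ≫ b.inv)
  let C := (φ : B →ₐ[k] A).range
  have hC : SGA3.IsHopfSubalgebra k A C := RedImage.isHopfSubalgebra_range φ
  letI := SubHopf.hopf C hC
  let inc : C →ₐc[k] A := BialgHom.ofAlgHom C.val rfl (AlgHom.ext fun c => SubHopf.map_comulRes C hC c)
  let r : B →ₐc[k] C := BialgHom.ofAlgHom (φ : B →ₐ[k] A).rangeRestrict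
    (AlgHom.ext fun x => CoalgHomClass.counit_comp_apply φ x) (AlgHom.ext fun x => by
      apply SubHopf.map_val_injective C.val C.val Subtype.val_injective Subtype.val_injective
      have e : ∀ z : B ⊗[k] B, Algebra.TensorProduct.map C.val C.val
          (Algebra.TensorProduct.map (φ : B →ₐ[k] A).rangeRestrict (φ : B →ₐ[k] A).rangeRestrict z) =
          TensorProduct.map (φ : B →ₐ[k] A).toLinearMap (φ : B →ₐ[k] A).toLinearMap z := by
        intro z
        induction z using TensorProduct.induction_on with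
        | zero => simp
        | tmul x y => simp
        | add s t hs ht => simp only [map_add, hs, ht]
      exact (e _).trans ((CoalgHomClass.map_comp_comul_apply φ x).trans
        (SubHopf.map_comulRes C hC ((φ : B →ₐ[k] A).rangeRestrict x)).symm))
  have hint : Algebra.IsIntegral k A := ⟨fun y => by
    let y' : Γ((AffineHopf.sp k A).left, ⊤) := (Scheme.ΓSpecIso (CommRingCat.of A)).inv y
    obtain ⟨z, hz⟩ := (ConcreteCategory.bijective_of_isIso a.hom.left.appTop).2 y'
    obtain ⟨G₀, _, _, π, _, t, rfl⟩ := exists_finite_level h z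
    let ψ : Γ(G₀.left, ⊤) →+* A :=
      (Scheme.ΓSpecIso (CommRingCat.of A)).hom.hom.comp (a.hom ≫ π).left.appTop.hom
    have hψ : ψ.comp (Coh.toGlobal G₀.hom) = algebraMap k A := by
      refine RingHom.ext fun c => ?_
      show (Scheme.ΓSpecIso (CommRingCat.of A)).hom ((a.hom ≫ π).left.appTop (Coh.toGlobal G₀.hom c)) = _
      rw [toGlobal_comp]
      exact (ConcreteCategory.congr_hom (Scheme.ΓSpecIso_naturality (CommRingCat.ofHom (algebraMap k A))) _).trans
        (congrArg (algebraMap k A) (Iso.inv_hom_id_apply (Scheme.ΓSpecIso (CommRingCat.of k)) c))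
    have hy : ψ t = y := by
      show (Scheme.ΓSpecIso (CommRingCat.of A)).hom ((a.hom ≫ π).left.appTop t) = y
      rw [Over.comp_left, Scheme.Hom.comp_appTop]
      exact (congrArg (Scheme.ΓSpecIso (CommRingCat.of A)).hom hz).trans (Iso.inv_hom_id_apply (Scheme.ΓSpecIso (CommRingCat.of A)) y)
    obtain ⟨p, hp, hp'⟩ := RingHom.Finite.to_isIntegral
      (show @RingHom.Finite k Γ(G₀.left, ⊤) _ _ (Coh.toGlobal G₀.hom) from finite_functions G₀) t
    refine ⟨p, hp, ?_⟩
    rw [← hy, ← hψ]
    exact (Polynomial.hom_eval₂ p (Coh.toGlobal G₀.hom : k →+* Γ(G₀.left, ⊤)) ψ t).symm.trans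
      ((congrArg ψ hp').trans (map_zero ψ))⟩
  haveI : Algebra.IsIntegral k C := ⟨fun c => (isIntegral_algHom_iff C.val Subtype.val_injective).mp (hint.isIntegral _)⟩
  haveI : Algebra.FiniteType k C :=
    Algebra.FiniteType.of_surjective (φ : B →ₐ[k] A).rangeRestrict (φ : B →ₐ[k] A).rangeRestrict_surjective
  haveI : Module.Finite k C := Algebra.IsIntegral.finite
  haveI : IsFinite (AffineHopf.sp k C).hom :=
    (IsFinite.SpecMap_iff (CommRingCat.ofHom (algebraMap k C))).mpr (RingHom.finite_algebraMap.mpr ‹_›)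
  haveI : LocallyOfFinitePresentation (AffineHopf.sp k C).hom :=
    (HasRingHomProperty.Spec_iff (P := @LocallyOfFinitePresentation)).mpr
      (RingHom.finitePresentation_algebraMap.mpr (Algebra.FinitePresentation.of_finiteType.mp ‹_›))
  haveI : IsClosedImmersion (AffineHopf.spMap (r : B →ₐ[k] C)).left :=
    IsClosedImmersion.spec_of_surjective _ (φ : B →ₐ[k] A).rangeRestrict_surjective
  refine ⟨AffineHopf.sp k C, inferInstance, inferInstance, inferInstance, a.inv ≫ AffineHopf.spMap (inc : C →ₐ[k] A),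
    inferInstance, AffineHopf.spMap (r : B →ₐ[k] C) ≫ b.hom, inferInstance,
    inferInstanceAs (IsClosedImmersion ((AffineHopf.spMap (r : B →ₐ[k] C)).left ≫ b.hom.left)), ?_⟩
  rw [Category.assoc, ← Category.assoc (AffineHopf.spMap (inc : C →ₐ[k] A)), AffineHopf.spMap_comp,
    show (inc : C →ₐ[k] A).comp (r : B →ₐ[k] C) = (φ : B →ₐ[k] A) from rfl, ← hφ]
  simp

end Groth.Agent.NoriLib
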