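import Groth.Agent.S4667
import Groth.Agent.FpqcDescLib.Closed
import Groth.Agent.FpqcDescLib.Group

/-!
# The largest closed subscheme over which a closed condition holds universally
-/

set_option autoImplicit false

universe u

open CategoryTheory CategoryTheory.Limits MonoidalCategory CartesianMonoidalCategory AlgebraicGeometry

namespace Groth.Agent.NoriLib

variable {S : Scheme.{u}}

/-- A point factors through a morphism. -/
def Mem {T V U : Over S} (j : V ⟶ U) (s : T ⟶ U) : Prop := ∃ c : T ⟶ V, c ≫ j = s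

theorem Mem.comp {T T' V U : Over S} {j : V ⟶ U} {s : T ⟶ U} (h : Mem j s) (t : T' ⟶ T) : Mem j (t ≫ s) := by
  obtain ⟨c, rfl⟩ := h
  exact ⟨t ≫ c, by simp⟩

theorem covers_fst (T W : Over S) [Surjective W.hom] [Flat W.hom] [QuasiCompact W.hom] :
    FpqcDescLib.Covers (fst T W).left := by
  haveI : Surjective (fst T W).left := MorphismProperty.pullback_fst T.hom W.hom ‹_›
  haveI : Flat (fst T W).left := MorphismProperty.pullback_fst T.hom W.hom ‹_›
  haveI : QuasiCompact (fst T W).left := MorphismProperty.pullback_fst T.hom W.hom ‹_›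
  exact FpqcDescLib.covers_of_isCovering (FpqcDescLib.isCovering_of_quasiCompact _)

/-- Membership in a mono descends along a covering projection. -/
theorem Mem.descend {T W V U : Over S} [Surjective W.hom] [Flat W.hom] [QuasiCompact W.hom] {j : V ⟶ U} [Mono j]
    {s : T ⟶ U} (h : Mem j (fst T W ≫ s)) : Mem j s := by
  obtain ⟨c, hc⟩ := h
  obtain ⟨χ, hχ, -⟩ := (covers_fst T W).over_desc c fun R a b e => by
    rw [← cancel_mono j, Category.assoc, Category.assoc, hc, reassoc_of% e]
  haveI : Epi (fst T W) := (covers_fst T W).over_epi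
  exact ⟨χ, by rw [← cancel_epi (fst T W), reassoc_of% hχ, hc]⟩

theorem mono_of_isClosedImmersion {V U : Over S} (j : V ⟶ U) [IsClosedImmersion j.left] : Mono j :=
  (Over.forget _).mono_of_mono_map (inferInstanceAs (Mono j.left))

/-- A closed condition on `U × W`, independent of the point of `W`, is the preimage of a closed subscheme of `U`. -/
theorem exists_forall {U W Z : Over S} [Surjective W.hom] [Flat W.hom] [QuasiCompact W.hom]
    (j : Z ⟶ U ⊗ W) [IsClosedImmersion j.left]
    (hind : ∀ (T : Over S) (s : T ⟶ U) (w w' : T ⟶ W), Mem j (lift s w) → Mem j (lift s w')) :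
    ∃ (V' : Over S) (j' : V' ⟶ U), IsClosedImmersion j'.left ∧
      ∀ (T : Over S) (s : T ⟶ U), Mem j' s ↔ ∀ (T' : Over S) (t : T' ⟶ T) (w : T' ⟶ W), Mem j (lift (t ≫ s) w) := by
  let g : (U ⊗ W).left ⟶ U.left := (fst U W).left
  haveI : Flat g := MorphismProperty.pullback_fst U.hom W.hom ‹_›
  haveI : QuasiCompact g := MorphismProperty.pullback_fst U.hom W.hom ‹_›
  let f : Z.left ⟶ U.left := j.left ≫ g
  haveI : QuasiCompact f := inferInstance
  let V' : Over S := Over.mk (f.imageι ≫ U.hom)
  let j' : V' ⟶ U := Over.homMk f.imageι rfl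
  let p : Z ⟶ V' := Over.homMk f.toImage (by
    show f.toImage ≫ f.imageι ≫ U.hom = Z.hom
    rw [Scheme.Hom.toImage_imageι_assoc, Category.assoc]
    exact (congrArg (j.left ≫ ·) (Over.w (fst U W))).trans (Over.w j))
  have hp : p ≫ j' = j ≫ fst U W := Over.OverMorphism.ext f.toImage_imageι
  haveI : IsClosedImmersion j'.left := inferInstanceAs (IsClosedImmersion f.imageι)
  haveI := mono_of_isClosedImmersion j'
  -- the preimage of the image lies in the given subscheme
  have hle : j.left.ker ≤ (pullback.snd f g).ker := by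
    let P : Over S := Over.mk (pullback.snd f g ≫ (U ⊗ W).hom)
    let q : P ⟶ U ⊗ W := Over.homMk (pullback.snd f g) rfl
    let z : P ⟶ Z := Over.homMk (pullback.fst f g) (by
      show pullback.fst f g ≫ Z.hom = pullback.snd f g ≫ (U ⊗ W).hom
      rw [← Over.w j, ← Over.w (fst U W)]
      exact pullback.condition_assoc U.hom)
    have hz : z ≫ j ≫ fst U W = q ≫ fst U W := Over.OverMorphism.ext pullback.condition
    have h1 : Mem j (lift (q ≫ fst U W) (z ≫ j ≫ snd U W)) := by
      refine ⟨z, CartesianMonoidalCategory.hom_ext _ _ ?_ ?_⟩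
      · rw [lift_fst, Category.assoc, hz]
      · rw [lift_snd, Category.assoc]
    obtain ⟨c, hc⟩ := hind _ _ _ (q ≫ snd U W) h1
    have hq : lift (q ≫ fst U W) (q ≫ snd U W) = q := by
      rw [← comp_lift, lift_fst_snd, Category.comp_id]
    rw [hq] at hc
    have e : c.left ≫ j.left = pullback.snd f g := congrArg CommaMorphism.left hc
    rw [← e]
    exact Scheme.Hom.le_ker_comp _ _
  refine ⟨V', j', inferInstance, fun T s => ⟨fun hs T' t w => ?_, fun h => ?_⟩⟩
  · obtain ⟨c, rfl⟩ := hs
    let y : T' ⟶ U ⊗ W := lift (t ≫ c ≫ j') w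
    let P' := pullback f.imageι g
    have hker : j.left.ker ≤ (pullback.snd f.imageι g).ker := by
      rw [← pullbackSymmetry_hom_comp_fst, Scheme.Hom.ker_comp_of_isIso,
        Scheme.IdealSheafData.ker_fst_of_isClosedImmersion, Scheme.Hom.imageι, Scheme.IdealSheafData.ker_subschemeι,
        ← S4667.result f g]
      exact hle
    let l : P' ⟶ Z.left := IsClosedImmersion.lift j.left (pullback.snd f.imageι g) hker
    have hy : (t ≫ c).left ≫ f.imageι = y.left ≫ g :=
      congrArg CommaMorphism.left (show (t ≫ c) ≫ j' = y ≫ fst U W by simp [y])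
    refine ⟨Over.homMk (pullback.lift (t ≫ c).left y.left hy ≫ l) ?_, Over.OverMorphism.ext ?_⟩
    · show (pullback.lift (t ≫ c).left y.left hy ≫ l) ≫ Z.hom = T'.hom
      rw [← Over.w j, Category.assoc, IsClosedImmersion.lift_fac_assoc, pullback.lift_snd_assoc]
      exact Over.w y
    · show (pullback.lift (t ≫ c).left y.left hy ≫ l) ≫ j.left = y.left
      rw [Category.assoc, IsClosedImmersion.lift_fac, pullback.lift_snd]
  · obtain ⟨c, hc⟩ := h (T ⊗ W) (fst T W) (snd T W)
    refine Mem.descend (W := W) ⟨c ≫ p, ?_⟩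
    rw [Category.assoc, hp, reassoc_of% hc, lift_fst]

end Groth.Agent.NoriLib
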