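import Groth.Agent.NoriLib.Classify

/-!
# Pulling back pointed torsors along a morphism of pointed schemes
-/

set_option autoImplicit false
set_option backward.isDefEq.respectTransparency false

universe u

open CategoryTheory CategoryTheory.Limits MonoidalCategory CartesianMonoidalCategory MonObj GrpObj AlgebraicGeometry

namespace Groth.Agent.NoriLib

variable {k : Type u} [Field k] {X Y : Scheme.{u}}
  [X.Over (Spec (CommRingCat.of k))] [Y.Over (Spec (CommRingCat.of k))]
  {x : Spec (CommRingCat.of k) ⟶ X} {y : Spec (CommRingCat.of k) ⟶ Y} {f : X ⟶ Y}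
  (hf : f ≫ (Y ↘ Spec (CommRingCat.of k)) = X ↘ Spec (CommRingCat.of k)) (hfx : x ≫ f = y)

/-- The pullback of the action on a torsor over `Y` to an action of the base change of the group to `X`. -/
noncomputable abbrev pullAct {H : Over (Spec (CommRingCat.of k))} [GrpObj H] {U : Over Y}
    (c : AlgGrp.Action (Red.bc (Y ↘ Spec (CommRingCat.of k)) H) U) :
    AlgGrp.Action (Red.bc (X ↘ Spec (CommRingCat.of k)) H) (Red.bc f U) :=
  (c.bc f).restrict (ActBC.bcCompIso f (Y ↘ Spec (CommRingCat.of k)) H hf).inv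

theorem isTorsorFor_pullAct {H : Over (Spec (CommRingCat.of k))} [GrpObj H] {U : Over Y}
    {c : AlgGrp.Action (Red.bc (Y ↘ Spec (CommRingCat.of k)) H) U}
    (hc : NonAbH1.IsTorsorFor Scheme.fpqcPrecoverage c) :
    NonAbH1.IsTorsorFor Scheme.fpqcPrecoverage (pullAct hf c) :=
  have h := NonAbH1.isTorsorFor_bc f Scheme.fpqcPrecoverage hc
  ⟨isPseudoTorsor_restrict_iso _ h.1, h.2⟩

include hfx in
/-- The marked point of the pulled-back torsor. -/
theorem exists_pullPt {U : Over Y} (u : Spec (CommRingCat.of k) ⟶ U.left) (hu : u ≫ U.hom = y) :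
    ∃ t : Spec (CommRingCat.of k) ⟶ (Red.bc f U).left,
      t ≫ pullback.fst U.hom f = u ∧ t ≫ (Red.bc f U).hom = x :=
  ⟨pullback.lift u x (hu.trans hfx.symm), pullback.lift_fst _ _ _, pullback.lift_snd _ _ _⟩

variable {πX πY : Over (Spec (CommRingCat.of k))} [GrpObj πX] [GrpObj πY] {PX : Over X} {PY : Over Y}
  {aX : AlgGrp.Action (Red.bc (X ↘ Spec (CommRingCat.of k)) πX) PX}
  {aY : AlgGrp.Action (Red.bc (Y ↘ Spec (CommRingCat.of k)) πY) PY}
  {pX : Spec (CommRingCat.of k) ⟶ PX.left} {pY : Spec (CommRingCat.of k) ⟶ PY.left}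

include hfx in
/-- The induced homomorphism composed with a classifying homomorphism classifies the pullback. -/
theorem exists_induced (hpX : pX ≫ PX.hom = x) {φ : πX ⟶ πY} [IsMonHom φ]
    (hφ : NoriFGS.IsInducedHom f hf aX pX aY pY φ)
    {H : Over (Spec (CommRingCat.of k))} [GrpObj H] {U : Over Y}
    {c : AlgGrp.Action (Red.bc (Y ↘ Spec (CommRingCat.of k)) H) U} {u : Spec (CommRingCat.of k) ⟶ U.left}
    {ρ : πY ⟶ H} [IsMonHom ρ] {g : PY ⟶ U} (hg : NoriFGS.IsPtTorsorHom aY pY c u ρ g)
    (hu : u ≫ U.hom = y) :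
    ∃ (t : Spec (CommRingCat.of k) ⟶ (Red.bc f U).left) (G : PX ⟶ Red.bc f U),
      t ≫ pullback.fst U.hom f = u ∧ t ≫ (Red.bc f U).hom = x ∧
      NoriFGS.IsPtTorsorHom aX pX (pullAct hf c) t (φ ≫ ρ) G := by
  obtain ⟨t, ht, ht'⟩ := exists_pullPt hfx u hu
  obtain ⟨_, g', hg', hp'⟩ := hφ
  refine ⟨t, g' ≫ (Over.pullback f).map g, ht, ht', ?_, ?_⟩
  · have hb := AlgGrp.Action.isEquivariant_bc f hg.1
    rw [AlgGrp.Action.bc_restrict] at hb
    unfold AlgGrp.Action.IsEquivariant at hg' hb ⊢
    refine AlgGrp.Action.hom_ext_lift₂ fun W h z => ?_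
    have e1 := congrArg (lift (h ≫ (ActBC.bcCompIso f (Y ↘ Spec (CommRingCat.of k)) πX hf).inv) z ≫ ·) hg'
    simp only [← Category.assoc, lift_whiskerLeft, AlgGrp.Action.lift_restrict_act] at e1
    rw [Category.assoc h, Iso.inv_hom_id, Category.comp_id] at e1
    rw [← Category.assoc, ← Category.assoc, e1, Category.assoc, hb, ← Category.assoc, lift_whiskerLeft,
      AlgGrp.Action.lift_restrict_act, lift_whiskerLeft_assoc, AlgGrp.Action.lift_restrict_act,
      AlgGrp.Action.lift_restrict_act]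
    congr 2
    simp only [Category.assoc]
    congr 1
    rw [← Functor.map_comp, ← Functor.map_comp, ← cancel_mono (ActBC.bcCompIso f (Y ↘ Spec (CommRingCat.of k)) H hf).hom,
        Category.assoc, ActBC.bcCompIso_hom_naturality, Iso.inv_hom_id_assoc, Category.assoc, Iso.inv_hom_id,
        Category.comp_id]
  · apply pullback.hom_ext
    · rw [ht]
      show (pX ≫ g'.left ≫ ((Over.pullback f).map g).left) ≫ pullback.fst U.hom f = u
      rw [Category.assoc, Category.assoc, show ((Over.pullback f).map g).left ≫ pullback.fst U.hom f = pullback.fst PY.hom f ≫ g.left from ActBC.pullback_map_left_fst f g,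
        ← Category.assoc g'.left, ← Category.assoc pX, hp', hg.2]
    · refine Eq.trans ?_ ht'.symm
      show (pX ≫ (g' ≫ (Over.pullback f).map g).left) ≫ (Red.bc f U).hom = x
      rw [Category.assoc, Over.w]
      exact hpX

end Groth.Agent.NoriLib
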