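import Groth.Agent.NoriLib.Induced
import Groth.Agent.RedImage.AffineTarget
import Groth.Agent.GrpSchLib.AntiAffineBC

/-!
# Minimal homomorphisms are faithfully flat, and classify the Nori-reduced torsors
-/

set_option autoImplicit false
set_option backward.isDefEq.respectTransparency false

universe u

open CategoryTheory CategoryTheory.Limits MonoidalCategory CartesianMonoidalCategory MonObj GrpObj AlgebraicGeometry
open Groth.Agent.GrpSchLib
open scoped TensorProduct

namespace Groth.Agent.NoriLib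

variable {k : Type u} [Field k] {πN H : Over (Spec (CommRingCat.of k))} [GrpObj πN] [GrpObj H]

theorem isMinimal_of_injective [IsFinite H.hom] {ρ : πN ⟶ H}
    (hinj : Function.Injective ρ.left.appTop) : IsMinimal ρ := by
  intro K _ i _ _ ρ' _ he
  haveI : IsAffine H.left := isAffine_of_isAffineHom H.hom
  haveI : IsIso i.left := IsClosedImmersion.isIso_of_injective_of_isAffine fun a b hab => hinj (by
    rw [← he, Over.comp_left, Scheme.Hom.comp_appTop]
    exact congrArg ρ'.left.appTop hab)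
  haveI : IsIso ((Over.forget _).map i) := ‹IsIso i.left›
  exact isIso_of_reflects_iso i (Over.forget _)

theorem appTop_spMap_injective {A B : Type u} [CommRing A] [CommRing B] [Algebra k A] [Algebra k B] (f : B →ₐ[k] A)
    (hf : Function.Injective f) : Function.Injective (AffineHopf.spMap f).left.appTop := by
  intro y z hyz
  apply (ConcreteCategory.bijective_of_isIso (Scheme.ΓSpecIso (CommRingCat.of B)).hom).1
  apply hf
  have h1 := ConcreteCategory.congr_hom (Scheme.ΓSpecIso_naturality (CommRingCat.ofHom f.toRingHom))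
  exact (h1 y).symm.trans ((congrArg (Scheme.ΓSpecIso (CommRingCat.of A)).hom hyz).trans (h1 z))

/-- A minimal homomorphism is injective on functions. -/
theorem injective_of_isMinimal [IsAffine πN.left] [IsFinite H.hom] {ρ : πN ⟶ H} [IsMonHom ρ] (hmin : IsMinimal ρ) :
    Function.Injective ρ.left.appTop := by
  haveI : IsAffine H.left := isAffine_of_isAffineHom H.hom
  obtain ⟨A, _, _, ⟨eA⟩⟩ := AffineHopf.exists_hopf πN
  obtain ⟨B, _, _, ⟨eB⟩⟩ := AffineHopf.exists_hopf H
  let a : AffineHopf.sp k A ≅ πN := (Grp.forget _).mapIso eA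
  let b : AffineHopf.sp k B ≅ H := (Grp.forget _).mapIso eB
  haveI : IsMonHom a.hom := eA.hom.hom.isMonHom_hom
  haveI : IsMonHom a.inv := eA.inv.hom.isMonHom_hom
  haveI : IsMonHom b.hom := eB.hom.hom.isMonHom_hom
  haveI : IsMonHom b.inv := eB.inv.hom.isMonHom_hom
  haveI : IsIso a.inv.left := ((Over.forget _).mapIso a).isIso_inv
  haveI : IsIso b.hom.left := ((Over.forget _).mapIso b).isIso_hom
  obtain ⟨φ, hφ⟩ := AffineHopf.exists_bialgHom (a.hom ≫ ρ ≫ b.inv)
  let C := (φ : B →ₐ[k] A).range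
  have hC : SGA3.IsHopfSubalgebra k A C := RedImage.isHopfSubalgebra_range φ
  letI := SubHopf.hopf C hC
  let inc : C →ₐc[k] A := BialgHom.ofAlgHom C.val rfl (AlgHom.ext fun c => SubHopf.map_comulRes C hC c)
  let r : B →ₐc[k] C := BialgHom.ofAlgHom (φ : B →ₐ[k] A).rangeRestrict
    (AlgHom.ext fun x => CoalgHomClass.counit_comp_apply φ x) (AlgHom.ext fun x => by
      apply SubHopf.map_val_injective C.val C.val Subtype.val_injective Subtype.val_injective
      have e : ∀ z : B ⊗[k] B, Algebra.TensorProduct.map C.val C.val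
          (Algebra.TensorProduct.map (φ : B →ₐ[k] A).rangeRestrict (φ : B →ₐ[k] A).rangeRestrict z) =
          TensorProduct.map (φ : B →ₐ[k] A).toLinearMap (φ : B →ₐ[k] A).toLinearMap z := by
        intro z
        induction z using TensorProduct.induction_on with
        | zero => simp
        | tmul x y => simp
        | add s t hs ht => simp only [map_add, hs, ht]
      exact (e _).trans ((CoalgHomClass.map_comp_comul_apply φ x).trans (SubHopf.map_comulRes C hC ((φ : B →ₐ[k] A).rangeRestrict x)).symm))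
  let j : AffineHopf.sp k C ⟶ H := AffineHopf.spMap (r : B →ₐ[k] C) ≫ b.hom
  haveI : IsMonHom j := inferInstanceAs (IsMonHom (AffineHopf.spMap (r : B →ₐ[k] C) ≫ b.hom))
  haveI : IsClosedImmersion (AffineHopf.spMap (r : B →ₐ[k] C)).left :=
    IsClosedImmersion.spec_of_surjective _ (φ : B →ₐ[k] A).rangeRestrict_surjective
  haveI : IsClosedImmersion j.left :=
    inferInstanceAs (IsClosedImmersion ((AffineHopf.spMap (r : B →ₐ[k] C)).left ≫ b.hom.left))
  let ρ' : πN ⟶ AffineHopf.sp k C := a.inv ≫ AffineHopf.spMap (inc : C →ₐ[k] A)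
  haveI : IsMonHom ρ' := inferInstanceAs (IsMonHom (a.inv ≫ AffineHopf.spMap (inc : C →ₐ[k] A)))
  have he : ρ' ≫ j = ρ := by
    show (a.inv ≫ _) ≫ _ ≫ _ = _
    rw [Category.assoc, ← Category.assoc (AffineHopf.spMap (inc : C →ₐ[k] A)), AffineHopf.spMap_comp,
      show (inc : C →ₐ[k] A).comp (r : B →ₐ[k] C) = (φ : B →ₐ[k] A) from rfl, ← hφ]
    simp
  haveI := hmin _ j ρ' he
  haveI : IsIso j.left := inferInstanceAs (IsIso ((Over.forget _).map j))
  haveI : IsIso j.left.appTop := inferInstanceAs (IsIso (Scheme.Γ.map j.left.op))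
  haveI : IsIso a.inv.left.appTop := inferInstanceAs (IsIso (Scheme.Γ.map a.inv.left.op))
  intro y z hyz
  rw [← he, Over.comp_left, Scheme.Hom.comp_appTop, Over.comp_left, Scheme.Hom.comp_appTop] at hyz
  exact (ConcreteCategory.bijective_of_isIso j.left.appTop).1
    (appTop_spMap_injective _ Subtype.val_injective ((ConcreteCategory.bijective_of_isIso a.inv.left.appTop).1 hyz))

variable {S : Scheme.{u}}

/-- The map induced between extensions of a torsor along an injective homomorphism is a closed immersion. -/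
theorem exists_sub {G K L P V U : Over S} [GrpObj G] [GrpObj K] [GrpObj L] {aP : AlgGrp.Action G P}
    {b : AlgGrp.Action K V} {c : AlgGrp.Action L U} [IsAffineHom G.hom] [Flat G.hom]
    (ha : NonAbH1.IsTorsorFor Scheme.fpqcPrecoverage aP) (hb : NonAbH1.IsPseudoTorsorSch b)
    (hc : NonAbH1.IsPseudoTorsorSch c) {f : G ⟶ K} [IsMonHom f] (i : K ⟶ L) [IsMonHom i] [IsClosedImmersion i.left]
    {gV : P ⟶ V} (hgV : AlgGrp.Action.IsEquivariant aP (b.restrict f) gV)
    {gU : P ⟶ U} (hgU : AlgGrp.Action.IsEquivariant aP (c.restrict (f ≫ i)) gU) :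
    ∃ j : V ⟶ U, IsClosedImmersion j.left ∧ AlgGrp.Action.IsEquivariant b (c.restrict i) j ∧ gV ≫ j = gU := by
  haveI := mono_of_isClosedImmersion i
  obtain ⟨hP₁, hP₂, hP₃⟩ := torsor_props ha
  haveI : QuasiCompact P.hom := inferInstance
  let m : K ⊗ P ⟶ V := (K ◁ gV) ≫ b.act
  have hm : ∀ {T : Over S} (g : T ⟶ K) (p : T ⟶ P), lift g p ≫ m = lift g (p ≫ gV) ≫ b.act := fun g p => by
    simp [m]
  haveI hiso : IsIso (lift m (snd K P)) := SchTorsor.isIso_of_section hb gV
  have hcov : FpqcDescLib.Covers m.left := by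
    obtain ⟨Z, r, hr⟩ := covers_fst V P
    refine ⟨Z, r ≫ (inv (lift m (snd K P))).left, ?_⟩
    rw [Category.assoc, ← Over.comp_left, show inv (lift m (snd K P)) ≫ m = fst V P by
      rw [IsIso.inv_comp_eq, lift_fst]]
    exact hr
  haveI : Epi m := hcov.over_epi
  obtain ⟨j, hj, -⟩ := hcov.over_desc ((i ▷ P) ≫ (L ◁ gU) ≫ c.act) fun T p q hpq => by
    obtain ⟨g, z, rfl⟩ : ∃ (g : T ⟶ K) (z : T ⟶ P), p = lift g z := ⟨_, _, BalLib.lift_fst_snd_self p⟩
    obtain ⟨g', z', rfl⟩ : ∃ (g : T ⟶ K) (z : T ⟶ P), q = lift g z := ⟨_, _, BalLib.lift_fst_snd_self q⟩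
    obtain ⟨dd, rfl⟩ := SchTorsor.exists_div ha.1 z z'
    have e1 := congrArg (lift dd z' ≫ ·) hgV
    simp only [← Category.assoc, lift_whiskerLeft, AlgGrp.Action.lift_restrict_act] at e1
    rw [hm, hm, e1, ← SchTorsor.act_assoc] at hpq
    have e2 := SchTorsor.act_free hb hpq
    have e3 := congrArg (lift dd z' ≫ ·) hgU
    simp only [← Category.assoc, lift_whiskerLeft, AlgGrp.Action.lift_restrict_act] at e3
    rw [lift_whiskerRight_assoc, lift_whiskerRight_assoc, lift_whiskerLeft_assoc, lift_whiskerLeft_assoc, e3,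
      ← SchTorsor.act_assoc, ← e2, MonObj.mul_comp]
    try simp only [Category.assoc]
  have hj' : ∀ {T : Over S} (g : T ⟶ K) (p : T ⟶ P),
      (lift g (p ≫ gV) ≫ b.act) ≫ j = lift (g ≫ i) (p ≫ gU) ≫ c.act := by
    intro T g p
    rw [← hm, Category.assoc, hj, lift_whiskerRight_assoc, lift_whiskerLeft_assoc]
  have hgVj : gV ≫ j = gU := by
    have := hj' (1 : P ⟶ K) (𝟙 P)
    simpa only [AlgGrp.Action.lift_one_act, MonObj.one_comp, Category.id_comp] using this
  refine ⟨j, ?_, ?_, hgVj⟩
  · haveI := SchTorsor.isIso_of_section hc gU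
    haveI : IsClosedImmersion (i ▷ P).left := MorphismProperty.of_isPullback (P := @IsClosedImmersion)
      ((FpqcDescLib.isPullback_whiskerRight i P).map (Over.forget S)).flip ‹_›
    have e : lift m (snd K P) ≫ (j ▷ P) = (i ▷ P) ≫ lift ((L ◁ gU) ≫ c.act) (snd L P) := by
      apply CartesianMonoidalCategory.hom_ext <;> simp [hj]
    have hcl : IsClosedImmersion (j ▷ P).left := by
      rw [show (j ▷ P) = inv (lift m (snd K P)) ≫ (i ▷ P) ≫ lift ((L ◁ gU) ≫ c.act) (snd L P) by
        rw [← e, IsIso.inv_hom_id_assoc], Over.comp_left, Over.comp_left]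
      haveI : IsIso (inv (lift m (snd K P))).left :=
        inferInstanceAs (IsIso ((Over.forget S).map (inv (lift m (snd K P)))))
      haveI : IsIso (lift ((L ◁ gU) ≫ c.act) (snd L P)).left :=
        inferInstanceAs (IsIso ((Over.forget S).map (lift ((L ◁ gU) ≫ c.act) (snd L P))))
      infer_instance
    exact (covers_fst U P).isClosedImmersion j.left (j ▷ P).left (fst V P).left
      ((FpqcDescLib.isPullback_whiskerRight j P).map (Over.forget S))
  · unfold AlgGrp.Action.IsEquivariant
    haveI : Epi (K ◁ m) := (FpqcDescLib.covers_whiskerLeft hcov K).over_epi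
    rw [← cancel_epi (K ◁ m)]
    refine AlgGrp.Action.hom_ext_lift₂ fun T g q => ?_
    obtain ⟨g', p, rfl⟩ : ∃ (g' : T ⟶ K) (p : T ⟶ P), q = lift g' p := ⟨_, _, BalLib.lift_fst_snd_self q⟩
    simp only [lift_whiskerLeft_assoc, AlgGrp.Action.lift_restrict_act, hm]
    rw [← Category.assoc, ← SchTorsor.act_assoc, hj', hj', MonObj.mul_comp, SchTorsor.act_assoc]

variable {X : Scheme.{u}} [X.Over (Spec (CommRingCat.of k))] {x : Spec (CommRingCat.of k) ⟶ X}
  {P : Over X} {a : AlgGrp.Action (Red.bc (X ↘ Spec (CommRingCat.of k)) πN) P}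
  {p : Spec (CommRingCat.of k) ⟶ P.left}

/-- The classifying homomorphism of a pointed Nori-reduced torsor is minimal. -/
theorem isMinimal_of_isNoriReduced (hxs : x ≫ (X ↘ Spec (CommRingCat.of k)) = 𝟙 _) (hP : NoriFGS.IsFGS x πN a p) [IsFinite H.hom] {U : Over X}
    {c : AlgGrp.Action (Red.bc (X ↘ Spec (CommRingCat.of k)) H) U} {u : Spec (CommRingCat.of k) ⟶ U.left}
    (hU : NonAbH1.IsTorsorFor Scheme.fpqcPrecoverage c)
    {ρ : πN ⟶ H} [IsMonHom ρ] {g : P ⟶ U} (hg : NoriFGS.IsPtTorsorHom a p c u ρ g)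
    (hN : NoriFGS.IsNoriReduced Scheme.fpqcPrecoverage c) : IsMinimal ρ := by
  intro K _ i _ _ ρ' _ he
  haveI : IsFinite K.hom := by rw [← Over.w i]; infer_instance
  let s := X ↘ Spec (CommRingCat.of k)
  haveI := isAffineHom_proFinite hP.1
  haveI : IsAffineHom (Red.bc s πN).hom := MorphismProperty.pullback_snd πN.hom s ‹_›
  haveI : Flat (Red.bc s πN).hom := MorphismProperty.pullback_snd πN.hom s (inferInstanceAs (Flat πN.hom))
  haveI : IsAffineHom (Red.bc s K).hom := MorphismProperty.pullback_snd K.hom s (inferInstanceAs (IsAffineHom K.hom))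
  obtain ⟨V, b, gV, hV, hgV⟩ := exists_push hP.2.1 (show Red.bc s πN ⟶ Red.bc s K from (Over.pullback s).map ρ')
  haveI : IsClosedImmersion ((Over.pullback s).map i).left := by
    have hsq : IsPullback ((Over.pullback s).map i).left (pullback.fst K.hom s) (pullback.fst H.hom s) i.left := by
      refine IsPullback.of_right ?_ (ActBC.pullback_map_left_fst s i) (IsPullback.of_hasPullback H.hom s).flip
      rw [Over.w i, show ((Over.pullback s).map i).left ≫ pullback.snd H.hom s = pullback.snd K.hom s from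
        Over.w ((Over.pullback s).map i)]
      exact (IsPullback.of_hasPullback K.hom s).flip
    exact MorphismProperty.of_isPullback hsq.flip ‹_›
  have hgU : AlgGrp.Action.IsEquivariant a
      (c.restrict ((show Red.bc s πN ⟶ Red.bc s K from (Over.pullback s).map ρ') ≫
        (show Red.bc s K ⟶ Red.bc s H from (Over.pullback s).map i))) g := by
    refine AlgGrp.Action.hom_ext_lift₂ fun T h z => ?_
    rw [hg.1, lift_whiskerLeft_assoc, lift_whiskerLeft_assoc, AlgGrp.Action.lift_restrict_act,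
      AlgGrp.Action.lift_restrict_act, ← Functor.map_comp, he]
  obtain ⟨j, hjc, hje, -⟩ := exists_sub hP.2.1 hV.1 hU.1
    (show Red.bc s K ⟶ Red.bc s H from (Over.pullback s).map i) hgV hgU
  haveI : IsIso j := hN K i V j b hV hje
  -- the marked points force the subgroup to be everything
  have hfree : ∀ {T : Over X} (h : T ⟶ Red.bc s H) (v : T ⟶ V),
      Mem ((Over.pullback s).map i) h := by
    intro T h v
    obtain ⟨κ, hκ⟩ := SchTorsor.exists_div hV.1 ((lift h (v ≫ j) ≫ c.act) ≫ inv j) v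
    refine ⟨κ, SchTorsor.act_free hU.1 (y := v ≫ j) ?_⟩
    have e := congrArg (· ≫ j) hκ
    simp only [Category.assoc, IsIso.inv_hom_id, Category.comp_id] at e
    rw [hje, lift_whiskerLeft_assoc, AlgGrp.Action.lift_restrict_act] at e
    exact e
  haveI : Flat (Red.bc s K).hom := MorphismProperty.pullback_snd K.hom s (inferInstanceAs (Flat K.hom))
  obtain ⟨hV₁, hV₂, hV₃⟩ := torsor_props (G := Red.bc s K) (P := V) hV
  haveI := mono_of_isClosedImmersion i
  haveI : Surjective V.hom := hV₃
  haveI : PreservesLimitsOfSize.{0, 0} (Over.pullback s) := (Over.mapPullbackAdj s).rightAdjoint_preservesLimits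
  haveI : QuasiCompact V.hom := inferInstance
  obtain ⟨κ, hκ⟩ := Mem.descend (T := Red.bc s H) (W := V) (j := (Over.pullback s).map i) (s := 𝟙 _)
    (hfree (fst _ V ≫ 𝟙 _) (snd _ V))
  haveI : IsIso ((Over.pullback s).map i) :=
    ⟨κ, by rw [← cancel_mono ((Over.pullback s).map i), Category.assoc, hκ, Category.comp_id, Category.id_comp], hκ⟩
  -- evaluate at the marked point
  have hpt : Mem i (𝟙 H) := by
    have hx : x ≫ s = 𝟙 _ := by
      exact hxs
    obtain ⟨κ', hκ'⟩ := (mem_map_iff s i (up hx (𝟙 H))).mp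
      ⟨up hx (𝟙 H) ≫ inv ((Over.pullback s).map i), by simp⟩
    rw [dn_up, Category.comp_id] at hκ'
    exact ⟨(atIso hx H).inv ≫ κ', by rw [Category.assoc, hκ', Iso.inv_hom_id]⟩
  obtain ⟨κ', hκ'⟩ := hpt
  exact ⟨κ', by rw [← cancel_mono i, Category.assoc, hκ', Category.comp_id, Category.id_comp], hκ'⟩

end Groth.Agent.NoriLib
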