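import Groth.Agent.NoriLib.Forall
import Groth.Prelude.Def_ActBC

/-!
# Points of the base change of a group scheme
-/

set_option autoImplicit false

universe u

open CategoryTheory CategoryTheory.Limits MonoidalCategory CartesianMonoidalCategory MonObj GrpObj AlgebraicGeometry

noncomputable section

namespace Groth.Agent.NoriLib

variable {S X : Scheme.{u}} (s : X ⟶ S)

/-- The point over the base underlying a point of a base change. -/
def dn {T : Over X} {A : Over S} (a : T ⟶ (Over.pullback s).obj A) : (Over.map s).obj T ⟶ A :=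
  ((Over.mapPullbackAdj s).homEquiv T A).symm a

theorem dn_injective {T : Over X} {A : Over S} {a b : T ⟶ (Over.pullback s).obj A} (h : dn s a = dn s b) : a = b :=
  ((Over.mapPullbackAdj s).homEquiv T A).symm.injective h

theorem dn_surjective {T : Over X} {A : Over S} (h : (Over.map s).obj T ⟶ A) : ∃ a, dn s (T := T) a = h :=
  ⟨(Over.mapPullbackAdj s).homEquiv T A h, ((Over.mapPullbackAdj s).homEquiv T A).symm_apply_apply h⟩

theorem dn_comp {T T' : Over X} {A : Over S} (t : T' ⟶ T) (a : T ⟶ (Over.pullback s).obj A) :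
    dn s (t ≫ a) = (Over.map s).map t ≫ dn s a :=
  (Over.mapPullbackAdj s).homEquiv_naturality_left_symm t a

theorem dn_map {T : Over X} {A B : Over S} (a : T ⟶ (Over.pullback s).obj A) (f : A ⟶ B) :
    dn s (a ≫ (Over.pullback s).map f) = dn s a ≫ f :=
  (Over.mapPullbackAdj s).homEquiv_naturality_right_symm a f

theorem dn_mul {T : Over X} {G : Over S} [GrpObj G] (a b : T ⟶ Red.bc s G) : dn s (a * b) = dn s a * dn s b := by
  apply ((Over.mapPullbackAdj s).homEquiv T G).injective
  rw [AlgGrp.Action.homEquiv_mul]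
  simp [dn]

theorem dn_one {T : Over X} {G : Over S} [GrpObj G] : dn s (1 : T ⟶ Red.bc s G) = 1 := by
  have h := dn_mul s (1 : T ⟶ Red.bc s G) 1
  rw [_root_.one_mul] at h
  exact left_eq_mul.mp h

theorem dn_inv {T : Over X} {G : Over S} [GrpObj G] (a : T ⟶ Red.bc s G) : dn s a⁻¹ = (dn s a)⁻¹ := by
  refine eq_inv_of_mul_eq_one_left ?_
  rw [← dn_mul, _root_.inv_mul_cancel, dn_one]

theorem mem_map_iff {T : Over X} {A B : Over S} (f : A ⟶ B) (a : T ⟶ (Over.pullback s).obj B) :
    Mem ((Over.pullback s).map f) a ↔ Mem f (dn s a) := by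
  refine ⟨fun ⟨c, hc⟩ => ⟨dn s c, by rw [← dn_map, hc]⟩, fun ⟨c, hc⟩ => ?_⟩
  obtain ⟨a', rfl⟩ := dn_surjective s c
  exact ⟨a', dn_injective s (by rw [dn_map, hc])⟩

/-- An object over the base placed at a point. -/
abbrev at' (x : S ⟶ X) (A : Over S) : Over X := Over.mk (A.hom ≫ x)

/-- An object placed at a point lies over that point. -/
abbrev toPt (x : S ⟶ X) (A : Over S) : at' x A ⟶ Over.mk x := Over.homMk A.hom rfl

/-- Morphisms between objects placed at a point. -/
abbrev atMap (x : S ⟶ X) {A B : Over S} (h : A ⟶ B) : at' x A ⟶ at' x B :=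
  Over.homMk h.left (show h.left ≫ B.hom ≫ x = A.hom ≫ x by rw [Over.w_assoc])

variable {s} {x : S ⟶ X} (hx : x ≫ s = 𝟙 S)

/-- Forgetting the point gives back the object. -/
def atIso (A : Over S) : (Over.map s).obj (at' x A) ≅ A :=
  Over.isoMk (Iso.refl _) (show 𝟙 _ ≫ A.hom = (A.hom ≫ x) ≫ s by rw [Category.id_comp, Category.assoc, hx, Category.comp_id])

/-- A point over the base as a point of the base change at the given point. -/
def up {A G : Over S} (h : A ⟶ G) : at' x A ⟶ (Over.pullback s).obj G :=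
  (Over.mapPullbackAdj s).homEquiv _ _ ((atIso hx A).hom ≫ h)

theorem dn_up {A G : Over S} (h : A ⟶ G) : dn s (up hx h) = (atIso hx A).hom ≫ h :=
  Equiv.symm_apply_apply _ _

theorem atMap_up {A B G : Over S} (f : A ⟶ B) (h : B ⟶ G) : atMap x f ≫ up hx h = up hx (f ≫ h) := by
  apply dn_injective
  rw [dn_comp, dn_up, dn_up, ← Category.assoc, ← Category.assoc]
  congr 1

theorem up_map {A G G' : Over S} (h : A ⟶ G) (f : G ⟶ G') : up hx h ≫ (Over.pullback s).map f = up hx (h ≫ f) :=
  dn_injective s (by rw [dn_map, dn_up, dn_up, Category.assoc])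

theorem up_mul {A G : Over S} [GrpObj G] (a b : A ⟶ G) :
    (up hx (a * b) : at' x A ⟶ Red.bc s G) = (up hx a : at' x A ⟶ Red.bc s G) * up hx b := by
  apply dn_injective
  rw [dn_mul, dn_up, dn_up, dn_up, MonObj.comp_mul]

theorem exists_up {A G : Over S} (a : at' x A ⟶ (Over.pullback s).obj G) : ∃ h : A ⟶ G, up hx h = a :=
  ⟨(atIso hx A).inv ≫ dn s a, dn_injective s (by rw [dn_up, Iso.hom_inv_id_assoc])⟩

theorem up_injective {A G : Over S} {a b : A ⟶ G} (h : up hx a = up hx b) : a = b := by
  have := congrArg (dn s) h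
  rwa [dn_up, dn_up, cancel_epi] at this

end Groth.Agent.NoriLib

end
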