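import Groth.Agent.BalLib.Assoc
import Groth.Agent.FpqcDescLib.Group
import Groth.Agent.EtFound.Descent
import Groth.Agent.SchTorsor.Props

/-!
# Change of the structure group of an fpqc torsor
-/

set_option autoImplicit false
set_option backward.isDefEq.respectTransparency false

universe u

open CategoryTheory CategoryTheory.Limits MonoidalCategory CartesianMonoidalCategory MonObj GrpObj AlgebraicGeometry

namespace Groth.Agent.NoriLib

variable {S : Scheme.{u}} {G K P : Over S} [GrpObj G] [GrpObj K] {aP : AlgGrp.Action G P}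

/-- A pseudo-torsor as a cartesian square over the base. -/
theorem isPullback_of_pseudo (ha : NonAbH1.IsPseudoTorsorSch aP) :
    IsPullback aP.act (snd G P) (toUnit P) (toUnit P) := by
  refine BalLib.isPullback_of_points (toUnit_unique _ _) fun T x y _ => ?_
  obtain ⟨g, hg⟩ := SchTorsor.exists_div ha x y
  refine ⟨lift g y, ⟨hg, lift_snd _ _⟩, fun p ⟨h1, h2⟩ => ?_⟩
  have hp : p = lift (p ≫ fst G P) y := by rw [← h2, ← comp_lift, lift_fst_snd, Category.comp_id]
  rw [hp] at h1 ⊢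
  rw [SchTorsor.act_free ha (h1.trans hg.symm)]

/-- A torsor under an affine flat group is affine, flat and surjective over the base. -/
theorem torsor_props [IsAffineHom G.hom] [Flat G.hom] (ha : NonAbH1.IsTorsorFor Scheme.fpqcPrecoverage aP) :
    IsAffineHom P.hom ∧ Flat P.hom ∧ Surjective P.hom := by
  haveI := EtFound.fpqc_isAffineHom.{u}
  exact ⟨SchTorsor.torsor_property @IsAffineHom ha inferInstance, SchTorsor.torsor_property @Flat ha inferInstance,
    SchTorsor.surjective_hom ha⟩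

/-- The torsor obtained by extending the structure group along a homomorphism. -/
theorem exists_push [IsAffineHom G.hom] [Flat G.hom] [IsAffineHom K.hom]
    (ha : NonAbH1.IsTorsorFor Scheme.fpqcPrecoverage aP) (f : G ⟶ K) [IsMonHom f] :
    ∃ (Q : Over S) (aQ : AlgGrp.Action K Q) (s : P ⟶ Q), NonAbH1.IsTorsorFor Scheme.fpqcPrecoverage aQ ∧
      AlgGrp.Action.IsEquivariant aP (aQ.restrict f) s := by
  obtain ⟨hP₁, hP₂, hP₃⟩ := torsor_props ha
  let π : P ⟶ 𝟙_ (Over S) := toUnit P
  have hπ : π.left = P.hom := (Category.comp_id _).symm.trans (Over.w π)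
  haveI : Surjective π.left := by rw [hπ]; infer_instance
  haveI : Flat π.left := by rw [hπ]; infer_instance
  haveI : QuasiCompact π.left := by rw [hπ]; infer_instance
  obtain ⟨Q, q, r, hw, sq, hcq⟩ := BalLib.exists_assoc (isPullback_of_pseudo ha.1)
    ((AlgGrp.Action.invRight K).restrict f)
  have hcov : FpqcDescLib.Covers q.left :=
    (FpqcDescLib.covers_of_isCovering (FpqcDescLib.isCovering_of_quasiCompact π.left)).over_pullback _ _ _ sq
  haveI : Epi q := hcov.over_epi
  haveI : Epi (K ◁ q) := (FpqcDescLib.covers_whiskerLeft hcov K).over_epi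
  have hinv : ∀ {W : Over S} (h : W ⟶ G) (p : W ⟶ P) (g : W ⟶ K),
      lift (lift h p ≫ aP.act) (g * (h ≫ f)⁻¹) ≫ q = lift p g ≫ q := by
    intro W h p g
    have e1 := congrArg (lift h (lift p g) ≫ ·) hcq.w
    simpa only [AlgGrp.Action.lift_prod_act_assoc, AlgGrp.Action.lift_restrict_act, AlgGrp.Action.lift_invRight_act,
      lift_snd_assoc] using e1
  have hfib : ∀ {W : Over S} (a b : W ⟶ P ⊗ K), a ≫ q = b ≫ q → ∃ h : W ⟶ G,
      a = lift (lift h (b ≫ fst P K) ≫ aP.act) ((b ≫ snd P K) * (h ≫ f)⁻¹) := by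
    intro W a b h
    let c := hcq.lift a b h
    refine ⟨c ≫ fst G (P ⊗ K), (hcq.lift_fst a b h).symm.trans ?_⟩
    have hc : c = lift (c ≫ fst G (P ⊗ K)) (lift (b ≫ fst P K) (b ≫ snd P K)) := by
      rw [← comp_lift b, lift_fst_snd, Category.comp_id]
      conv_lhs => rw [BalLib.lift_fst_snd_self c, show c ≫ snd G (P ⊗ K) = b from hcq.lift_snd _ _ h]
    show c ≫ (aP.prod _).act = _
    conv_lhs => rw [hc]
    rw [AlgGrp.Action.lift_prod_act, AlgGrp.Action.lift_restrict_act, AlgGrp.Action.lift_invRight_act]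
  obtain ⟨act, hact, -⟩ := (FpqcDescLib.covers_whiskerLeft hcov K).over_desc
    (lift (snd K (P ⊗ K) ≫ fst P K) (fst K (P ⊗ K) * (snd K (P ⊗ K) ≫ snd P K)) ≫ q) fun W a b hab => by
      have hk : a ≫ fst K (P ⊗ K) = b ≫ fst K (P ⊗ K) := by simpa using congrArg (· ≫ fst K Q) hab
      obtain ⟨h, hh⟩ := hfib (a ≫ snd K (P ⊗ K)) (b ≫ snd K (P ⊗ K)) (by simpa using congrArg (· ≫ snd K Q) hab)
      have h1 := congrArg (· ≫ fst P K) hh
      have h2 := congrArg (· ≫ snd P K) hh
      simp only [Category.assoc, lift_fst, lift_snd] at h1 h2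
      simp only [comp_lift_assoc, comp_mul]
      rw [hk, h1, h2, ← _root_.mul_assoc, hinv]
  have hact' : ∀ {W : Over S} (k : W ⟶ K) (p : W ⟶ P) (g : W ⟶ K),
      lift k (lift p g ≫ q) ≫ act = lift p (k * g) ≫ q := by
    intro W k p g
    rw [← lift_whiskerLeft_assoc, hact]
    simp only [comp_lift_assoc, comp_mul, lift_fst, lift_snd, lift_fst_assoc, lift_snd_assoc]
  let aQ : AlgGrp.Action K Q :=
    { act := act
      one_act := by
        haveI : Epi ((𝟙_ (Over S)) ◁ q) := (FpqcDescLib.covers_whiskerLeft hcov _).over_epi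
        rw [← cancel_epi ((𝟙_ (Over S)) ◁ q)]
        refine AlgGrp.Action.hom_ext_lift₂ fun W v u => ?_
        obtain ⟨p, g, rfl⟩ : ∃ (p : W ⟶ P) (g : W ⟶ K), u = lift p g := ⟨_, _, BalLib.lift_fst_snd_self u⟩
        rw [lift_whiskerLeft_assoc, lift_whiskerRight_assoc, hact', lift_whiskerLeft_assoc, leftUnitor_hom, lift_snd,
          show v ≫ η[K] = 1 by rw [Hom.one_def]; congr 1; exact toUnit_unique _ _, _root_.one_mul]
      mul_act := by
        haveI : Epi ((K ⊗ K) ◁ q) := (FpqcDescLib.covers_whiskerLeft hcov _).over_epi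
        rw [← cancel_epi ((K ⊗ K) ◁ q)]
        refine AlgGrp.Action.hom_ext_lift₂ fun W v u => ?_
        obtain ⟨p, g, rfl⟩ : ∃ (p : W ⟶ P) (g : W ⟶ K), u = lift p g := ⟨_, _, BalLib.lift_fst_snd_self u⟩
        obtain ⟨k, k', rfl⟩ : ∃ (k k' : W ⟶ K), v = lift k k' := ⟨_, _, BalLib.lift_fst_snd_self v⟩
        rw [lift_whiskerLeft_assoc, lift_whiskerRight_assoc, lift_whiskerLeft_assoc, lift_lift_associator_hom_assoc,
          lift_whiskerLeft_assoc, ← Hom.mul_def, hact', hact', hact', _root_.mul_assoc] }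
  let s : P ⟶ Q := lift (𝟙 P) 1 ≫ q
  have hs : ∀ {W : Over S} (p : W ⟶ P), p ≫ s = lift p 1 ≫ q := fun p => by
    show p ≫ lift (𝟙 P) 1 ≫ q = _
    rw [comp_lift_assoc, Category.comp_id, MonObj.comp_one]
  have hcovP : Presieve.singleton P.hom ∈ Scheme.fpqcPrecoverage S := FpqcDescLib.isCovering_of_quasiCompact P.hom
  refine ⟨Q, aQ, s, ⟨SchTorsor.isPseudoTorsor_of_local _ hcovP ?_, ⟨_, hcovP, ?_⟩⟩, ?_⟩
  · rintro S' f' ⟨⟩
    refine ⟨s, ?_⟩
    have hpb : IsPullback (lift (snd K P) (fst K P) ≫ q) (snd K P) r (toUnit P) := by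
      refine IsPullback.of_iso sq (β_ P K) (Iso.refl _) (Iso.refl _) (Iso.refl _) ?_ ?_ (by simp) (by simp [π])
      · rw [Iso.refl_hom, Category.comp_id, ← Category.assoc,
          show (β_ P K).hom ≫ lift (snd K P) (fst K P) = 𝟙 _ by apply CartesianMonoidalCategory.hom_ext <;> simp,
          Category.id_comp]
      · simp
    have e : lift ((K ◁ s) ≫ aQ.act) (snd K P) = lift (lift (snd K P) (fst K P) ≫ q) (snd K P) := by
      congr 1
      refine AlgGrp.Action.hom_ext_lift₂ fun W k p => ?_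
      rw [lift_whiskerLeft_assoc, hs]
      show lift k (lift p 1 ≫ q) ≫ act = _
      rw [hact', _root_.mul_one, comp_lift_assoc, lift_snd, lift_fst]
    show IsIso (lift ((K ◁ s) ≫ aQ.act) (snd K P))
    rw [e]
    refine ⟨hpb.lift (fst Q P) (snd Q P) (toUnit_unique _ _), ?_, ?_⟩
    · refine hpb.hom_ext ?_ ?_ <;> simp
    · apply CartesianMonoidalCategory.hom_ext <;> simp
  · rintro S' f' ⟨⟩
    exact ⟨s.left, Over.w s⟩
  · unfold AlgGrp.Action.IsEquivariant
    refine AlgGrp.Action.hom_ext_lift₂ fun W g p => ?_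
    rw [lift_whiskerLeft_assoc, AlgGrp.Action.lift_restrict_act, ← Category.assoc, hs, hs]
    show _ = lift (g ≫ f) (lift p 1 ≫ q) ≫ act
    rw [hact', _root_.mul_one, ← hinv g p (g ≫ f), _root_.mul_inv_cancel]

end Groth.Agent.NoriLib
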