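import Groth.Agent.NoriLib.Points
import Groth.Agent.NoriLib.Push
import Groth.Agent.GrpSchLib.MonoSubgroup
import Groth.Prelude.Def_NonAbH2

/-!
# Moving a subtorsor to a marked rational point
-/

set_option autoImplicit false
set_option backward.isDefEq.respectTransparency false

universe u

open CategoryTheory CategoryTheory.Limits MonoidalCategory CartesianMonoidalCategory MonObj GrpObj AlgebraicGeometry

namespace Groth.Agent.NoriLib

theorem mem_pullback_fst {S : Scheme.{u}} {T A B C : Over S} (f : A ⟶ C) (g : B ⟶ C) (a : T ⟶ A) :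
    Mem (pullback.fst f g) a ↔ Mem g (a ≫ f) := by
  refine ⟨fun ⟨c, hc⟩ => ⟨c ≫ pullback.snd f g, ?_⟩, fun ⟨c, hc⟩ => ⟨pullback.lift a c hc.symm, pullback.lift_fst _ _ _⟩⟩
  rw [Category.assoc, ← pullback.condition, reassoc_of% hc]

theorem isClosedImmersion_pullback_fst {S : Scheme.{u}} {A B C : Over S} (f : A ⟶ C) (g : B ⟶ C)
    [IsClosedImmersion g.left] : IsClosedImmersion (pullback.fst f g).left :=
  MorphismProperty.of_isPullback (P := @IsClosedImmersion)
    ((IsPullback.of_hasPullback f g).map (Over.forget S)).flip ‹_›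

theorem isPseudoTorsor_restrict_iso {S : Scheme.{u}} {G G' X : Over S} [GrpObj G] [GrpObj G'] (e : G' ⟶ G) [IsIso e]
    [IsMonHom e] {a : AlgGrp.Action G X} (ha : NonAbH1.IsPseudoTorsorSch a) :
    NonAbH1.IsPseudoTorsorSch (a.restrict e) := by
  haveI : IsIso (lift a.act (snd G X)) := ha
  show IsIso (lift (a.restrict e).act (snd G' X))
  rw [show lift (a.restrict e).act (snd G' X) = (e ▷ X) ≫ lift a.act (snd G X) by
    rw [comp_lift, whiskerRight_snd, AlgGrp.Action.restrict_act]]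
  infer_instance

variable {k : Type u} [Field k] {X : Scheme.{u}} (s : X ⟶ Spec (CommRingCat.of k))
  (x : Spec (CommRingCat.of k) ⟶ X) (hx : x ≫ s = 𝟙 _)
  {H K : Over (Spec (CommRingCat.of k))} [GrpObj H] [GrpObj K] [IsFinite H.hom]
  (i : K ⟶ H) [IsMonHom i] [IsClosedImmersion i.left]
  {U V : Over X} {aU : AlgGrp.Action (Red.bc s H) U} {b : AlgGrp.Action (Red.bc s K) V}
  (j : V ⟶ U) [IsClosedImmersion j.left]

include hx in
/-- A subtorsor of a pointed torsor has a translate through the marked point. -/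
theorem exists_translate (hU : NonAbH1.IsTorsorFor Scheme.fpqcPrecoverage aU)
    (hV : NonAbH1.IsTorsorFor Scheme.fpqcPrecoverage b)
    (hj : AlgGrp.Action.IsEquivariant b (aU.restrict ((Over.pullback s).map i)) j) (u : Over.mk x ⟶ U) :
    ∃ (K' : Over (Spec (CommRingCat.of k))) (_ : GrpObj K') (i' : K' ⟶ H) (_ : IsMonHom i')
      (_ : IsClosedImmersion i'.left) (V' : Over X) (j' : V' ⟶ U) (b' : AlgGrp.Action (Red.bc s K') V'),
      IsClosedImmersion j'.left ∧ NonAbH1.IsTorsorFor Scheme.fpqcPrecoverage b' ∧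
      AlgGrp.Action.IsEquivariant b' (aU.restrict ((Over.pullback s).map i')) j' ∧ Mem j' u ∧
      (IsIso i' → IsIso j) := by
  haveI := mono_of_isClosedImmersion j
  haveI := mono_of_isClosedImmersion i
  let Fi : Red.bc s K ⟶ Red.bc s H := (Over.pullback s).map i
  have hpts : ∀ {T : Over X} (g : T ⟶ Red.bc s K) (v : T ⟶ V),
      (lift g v ≫ b.act) ≫ j = lift (g ≫ Fi) (v ≫ j) ≫ aU.act := by
    intro T g v
    rw [Category.assoc, hj, lift_whiskerLeft_assoc, AlgGrp.Action.lift_restrict_act]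
  -- the fibre of the subtorsor at the marked point, inside the group
  let taut : at' x H ⟶ Red.bc s H := up hx (𝟙 H)
  let o : at' x H ⟶ U := lift taut (toPt x H ≫ u) ≫ aU.act
  haveI : IsClosedImmersion (pullback.fst o j).left := isClosedImmersion_pullback_fst o j
  let W : Over (Spec (CommRingCat.of k)) := Over.mk ((pullback.fst o j).left ≫ H.hom)
  let δ : W ⟶ H := Over.homMk (pullback.fst o j).left rfl
  haveI : IsClosedImmersion δ.left := inferInstanceAs (IsClosedImmersion (pullback.fst o j).left)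
  haveI := mono_of_isClosedImmersion δ
  have hW : ∀ {A : Over (Spec (CommRingCat.of k))} (h : A ⟶ H),
      Mem δ h ↔ Mem j (lift (up hx h : at' x A ⟶ Red.bc s H) (toPt x A ≫ u) ≫ aU.act) := by
    intro A h
    have e1 : atMap x h ≫ o = lift (up hx h : at' x A ⟶ Red.bc s H) (toPt x A ≫ u) ≫ aU.act := by
      show atMap x h ≫ lift _ _ ≫ _ = _
      have e2 : atMap x h ≫ taut = up hx h := (atMap_up hx h (𝟙 H)).trans (by rw [Category.comp_id])
      have e3 : atMap x h ≫ toPt x H = toPt x A := Over.OverMorphism.ext (Over.w h)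
      rw [comp_lift_assoc, e2, reassoc_of% e3]
    refine ⟨fun ⟨c, hc⟩ => ?_, fun hm => ?_⟩
    · let c' : at' x A ⟶ pullback o j := Over.homMk c.left (by
        show c.left ≫ (pullback o j).hom = A.hom ≫ x
        rw [← Over.w (pullback.fst o j), ← Over.w c]
        exact (Category.assoc _ _ _).trans (congrArg (c.left ≫ ·) (Category.assoc _ _ _)) |>.symm)
      have hc' : c' ≫ pullback.fst o j = atMap x h :=
        Over.OverMorphism.ext (show c.left ≫ (pullback.fst o j).left = h.left from congrArg CommaMorphism.left hc)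
      refine ⟨c' ≫ pullback.snd o j, ?_⟩
      rw [Category.assoc, ← pullback.condition, reassoc_of% hc', e1]
    · obtain ⟨v, hv⟩ := hm
      let l : at' x A ⟶ pullback o j := pullback.lift (atMap x h) v (e1.trans hv.symm)
      have hl : l.left ≫ (pullback.fst o j).left = h.left :=
        congrArg CommaMorphism.left (pullback.lift_fst (atMap x h) v (e1.trans hv.symm))
      exact ⟨Over.homMk l.left (by
        show l.left ≫ (pullback.fst o j).left ≫ H.hom = A.hom
        rw [reassoc_of% hl, Over.w h]), Over.OverMorphism.ext hl⟩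
  have hW1 : ∀ {A : Over (Spec (CommRingCat.of k))} (g : A ⟶ K) (w : A ⟶ W), Mem δ ((g ≫ i) * (w ≫ δ)) := by
    intro A g w
    obtain ⟨c, hc⟩ := (hW (w ≫ δ)).mp ⟨w, rfl⟩
    refine (hW _).mpr ⟨lift (up hx g : at' x A ⟶ Red.bc s K) c ≫ b.act, ?_⟩
    rw [hpts, hc, up_mul, SchTorsor.act_assoc, ← up_map hx g i]
  have hW2 : ∀ {A : Over (Spec (CommRingCat.of k))} (w w' : A ⟶ W),
      ∃ g : A ⟶ K, g ≫ i = (w' ≫ δ) * (w ≫ δ)⁻¹ := by
    intro A w w'
    obtain ⟨c, hc⟩ := (hW (w ≫ δ)).mp ⟨w, rfl⟩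
    obtain ⟨c', hc'⟩ := (hW (w' ≫ δ)).mp ⟨w', rfl⟩
    obtain ⟨g₀, hg₀⟩ := SchTorsor.exists_div hV.1 c' c
    obtain ⟨g, rfl⟩ := exists_up hx g₀
    have e := congrArg (· ≫ j) hg₀
    simp only [hpts, hc, hc'] at e
    rw [← SchTorsor.act_assoc] at e
    have e' := SchTorsor.act_free hU.1 e
    refine ⟨g, eq_mul_inv_of_mul_eq (up_injective hx ?_)⟩
    rw [up_mul, ← up_map hx g i]
    exact e'
  haveI : IsFinite W.hom := inferInstanceAs (IsFinite ((pullback.fst o j).left ≫ H.hom))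
  haveI : Flat W.hom := inferInstance
  haveI hWsurj : Surjective W.hom := by
    haveI := SchTorsor.surjective_hom hV
    let A : Over (Spec (CommRingCat.of k)) := Over.mk (pullback.snd V.hom x)
    let v : at' x A ⟶ V := Over.homMk (pullback.fst V.hom x) pullback.condition
    obtain ⟨g₀, hg₀⟩ := SchTorsor.exists_div hU.1 (v ≫ j) (toPt x A ≫ u)
    obtain ⟨g, rfl⟩ := exists_up hx g₀
    obtain ⟨w, -⟩ := (hW g).mpr ⟨v, hg₀.symm⟩
    haveI : Surjective (w.left ≫ W.hom) := by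
      rw [Over.w w]
      exact inferInstanceAs (Surjective (pullback.snd V.hom x))
    exact Surjective.of_comp w.left W.hom
  -- the stabiliser
  let m₀ : H ⊗ W ⟶ H := (snd H W ≫ δ) * fst H W
  haveI : IsClosedImmersion (pullback.fst m₀ δ).left := isClosedImmersion_pullback_fst m₀ δ
  have hm₀ : ∀ {A : Over (Spec (CommRingCat.of k))} (h : A ⟶ H) (w : A ⟶ W),
      Mem (pullback.fst m₀ δ) (lift h w) ↔ Mem δ ((w ≫ δ) * h) := by
    intro A h w
    rw [mem_pullback_fst, show lift h w ≫ m₀ = (w ≫ δ) * h by simp [m₀, MonObj.comp_mul]]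
  obtain ⟨K', i', hi', hK'⟩ := exists_forall (pullback.fst m₀ δ) fun A h w w' hh => by
    rw [hm₀] at hh ⊢
    obtain ⟨w'', hw''⟩ := hh
    obtain ⟨g, hg⟩ := hW2 w w'
    have : (w' ≫ δ) * h = (g ≫ i) * (w'' ≫ δ) := by rw [hg, hw'']; group
    rw [this]
    exact hW1 g w''
  simp only [hm₀] at hK'
  haveI := mono_of_isClosedImmersion i'
  obtain ⟨e, he⟩ := (hK' _ η[H]).mpr fun A t w => ⟨w, by
    rw [show t ≫ η[H] = (1 : A ⟶ H) by rw [Hom.one_def]; congr 1; exact toUnit_unique _ _, _root_.mul_one]⟩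
  obtain ⟨μ', hμ'⟩ := (hK' _ ((fst K' K' ≫ i') * (snd K' K' ≫ i'))).mpr fun A t w => by
    obtain ⟨w₁, h₁⟩ := (hK' _ i').mp ⟨𝟙 _, Category.id_comp _⟩ A (t ≫ fst K' K') w
    obtain ⟨w₂, h₂⟩ := (hK' _ i').mp ⟨𝟙 _, Category.id_comp _⟩ A (t ≫ snd K' K') w₁
    refine ⟨w₂, ?_⟩
    rw [h₂, h₁, MonObj.comp_mul, _root_.mul_assoc, Category.assoc, Category.assoc]
  obtain ⟨ι', hι'⟩ := (hK' _ i'⁻¹).mpr fun A t w => by
    obtain ⟨w₁, h₁⟩ := (hK' _ i').mp ⟨𝟙 _, Category.id_comp _⟩ A t w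
    obtain ⟨g, hg⟩ := hW2 w₁ w
    rw [GrpObj.comp_inv, show (w ≫ δ) * (t ≫ i')⁻¹ = (g ≫ i) * (w ≫ δ) by rw [hg, h₁]; group]
    exact hW1 g w
  obtain ⟨str, hhom⟩ := GrpSchLib.exists_grpObj_of_mono i' e he μ' hμ' ι' hι'
  letI := str
  haveI := hhom
  haveI : PreservesLimitsOfSize.{0, 0} (Over.pullback s) := (Over.mapPullbackAdj s).rightAdjoint_preservesLimits
  let Fi' : Red.bc s K' ⟶ Red.bc s H := (Over.pullback s).map i'
  haveI : Mono Fi' := inferInstanceAs (Mono ((Over.pullback s).map i'))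
  let FW : Over X := Red.bc s W
  let Fδ : FW ⟶ Red.bc s H := (Over.pullback s).map δ
  haveI : Surjective FW.hom := MorphismProperty.pullback_snd W.hom s ‹_›
  haveI : Flat FW.hom := MorphismProperty.pullback_snd W.hom s ‹_›
  haveI : QuasiCompact FW.hom := MorphismProperty.pullback_snd W.hom s (inferInstanceAs (QuasiCompact W.hom))
  have hFW2 : ∀ {T : Over X} (w w' : T ⟶ FW), ∃ g : T ⟶ Red.bc s K, g ≫ Fi = (w' ≫ Fδ) * (w ≫ Fδ)⁻¹ := by
    intro T w w'
    obtain ⟨g, hg⟩ := hW2 (dn s w) (dn s w')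
    obtain ⟨g', rfl⟩ := dn_surjective s g
    refine ⟨g', dn_injective s ?_⟩
    rw [dn_mul, dn_inv, dn_map, dn_map, dn_map, hg]
  have hFW1 : ∀ {T : Over X} (g : T ⟶ Red.bc s K) (w : T ⟶ FW), Mem Fδ ((g ≫ Fi) * (w ≫ Fδ)) := by
    intro T g w
    rw [mem_map_iff, dn_mul, dn_map, dn_map]
    exact hW1 _ _
  have hFK' : ∀ {T : Over X} (h : T ⟶ Red.bc s K') (w : T ⟶ FW), Mem Fδ ((w ≫ Fδ) * (h ≫ Fi')) := by
    intro T h w
    rw [mem_map_iff, dn_mul, dn_map, dn_map]
    simpa using (hK' _ _).mp ⟨dn s h, rfl⟩ _ (𝟙 _) (dn s w)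
  have hFK'' : ∀ {T : Over X} (h : T ⟶ Red.bc s H),
      (∀ (T' : Over X) (t : T' ⟶ T) (w : T' ⟶ FW), Mem Fδ ((w ≫ Fδ) * (t ≫ h))) → Mem Fi' h := by
    intro T h hh
    rw [mem_map_iff, hK']
    intro A t w
    let T' : Over X := Over.mk (t.left ≫ T.hom)
    let t' : T' ⟶ T := Over.homMk t.left rfl
    let e : (Over.map s).obj T' ≅ A := Over.isoMk (Iso.refl _) (by
      show 𝟙 _ ≫ A.hom = (t.left ≫ T.hom) ≫ s
      rw [Category.id_comp, Category.assoc]
      exact (Over.w t).symm)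
    obtain ⟨w', hw'⟩ := dn_surjective s (e.hom ≫ w)
    have h1 := hh T' t' w'
    rw [mem_map_iff, dn_mul, dn_map, dn_comp, hw',
      show (Over.map s).map t' = e.hom ≫ t from Over.OverMorphism.ext (Category.id_comp _).symm,
      Category.assoc, Category.assoc, ← MonObj.comp_mul] at h1
    simpa using h1.comp e.inv
  -- the translate
  let m₁ : U ⊗ FW ⟶ U := lift (snd U FW ≫ Fδ) (fst U FW) ≫ aU.act
  haveI : IsClosedImmersion (pullback.fst m₁ j).left := isClosedImmersion_pullback_fst m₁ j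
  have hm₁ : ∀ {T : Over X} (σ : T ⟶ U) (w : T ⟶ FW),
      Mem (pullback.fst m₁ j) (lift σ w) ↔ Mem j (lift (w ≫ Fδ) σ ≫ aU.act) := by
    intro T σ w
    rw [mem_pullback_fst, show lift σ w ≫ m₁ = lift (w ≫ Fδ) σ ≫ aU.act by
      show lift σ w ≫ lift _ _ ≫ _ = _
      rw [comp_lift_assoc, lift_snd_assoc, lift_fst]]
  obtain ⟨V', j', hj', hV'⟩ := exists_forall (pullback.fst m₁ j) fun T σ w w' hh => by
    rw [hm₁] at hh ⊢
    obtain ⟨c, hc⟩ := hh
    obtain ⟨g, hg⟩ := hFW2 w w'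
    refine ⟨lift g c ≫ b.act, ?_⟩
    rw [hpts, hg, hc, ← SchTorsor.act_assoc, inv_mul_cancel_right]
  simp only [hm₁] at hV'
  haveI := mono_of_isClosedImmersion j'
  obtain ⟨act, hact⟩ := (hV' _ (lift (fst (Red.bc s K') V' ≫ Fi') (snd _ V' ≫ j') ≫ aU.act)).mpr fun T t w => by
    obtain ⟨w₁, h₁⟩ := hFK' (t ≫ fst _ V') w
    have h2 := (hV' _ j').mp ⟨𝟙 _, Category.id_comp _⟩ T (t ≫ snd _ V') w₁
    rw [comp_lift_assoc, ← SchTorsor.act_assoc]
    rw [h₁] at h2
    simpa only [Category.assoc] using h2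
  have hact' : ∀ {T : Over X} (g : T ⟶ Red.bc s K') (v : T ⟶ V'),
      (lift g v ≫ act) ≫ j' = lift (g ≫ Fi') (v ≫ j') ≫ aU.act := by
    intro T g v
    rw [Category.assoc, hact, comp_lift_assoc, lift_fst_assoc, lift_snd_assoc]
  let b' : AlgGrp.Action (Red.bc s K') V' :=
    { act := act
      one_act := by
        rw [← cancel_mono j']
        refine AlgGrp.Action.hom_ext_lift₂ fun T a v => ?_
        rw [← Category.assoc, lift_whiskerRight_assoc, hact', Category.assoc, leftUnitor_hom,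
          lift_snd_assoc, IsMonHom.one_hom]
        exact (by
          rw [show a ≫ η[Red.bc s H] = 1 by rw [Hom.one_def]; congr 1; exact toUnit_unique _ _,
            AlgGrp.Action.lift_one_act])
      mul_act := by
        rw [← cancel_mono j']
        refine AlgGrp.Action.hom_ext_lift₂ fun T a v => ?_
        obtain ⟨g, g', rfl⟩ : ∃ (g g' : T ⟶ Red.bc s K'), a = lift g g' :=
          ⟨_, _, (BalLib.lift_fst_snd_self a)⟩
        simp only [← Category.assoc, lift_whiskerRight, lift_whiskerLeft, lift_lift_associator_hom, hact']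
        rw [← Hom.mul_def, MonObj.mul_comp, SchTorsor.act_assoc] }
  have hpseudo : NonAbH1.IsPseudoTorsorSch b' := by
    obtain ⟨g₀, hg₀⟩ := SchTorsor.exists_div hU.1 (fst V' V' ≫ j') (snd V' V' ≫ j')
    obtain ⟨g, hg⟩ := hFK'' g₀ fun T t w => by
      obtain ⟨c, hc⟩ := (hV' _ j').mp ⟨𝟙 _, Category.id_comp _⟩ T (t ≫ fst V' V') w
      obtain ⟨c₂, hc₂⟩ := (hV' _ j').mp ⟨𝟙 _, Category.id_comp _⟩ T (t ≫ snd V' V') w
      obtain ⟨f, hf⟩ := SchTorsor.exists_div hV.1 c c₂
      have e := congrArg (· ≫ j) hf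
      simp only [hpts, hc, hc₂, Category.assoc, ← hg₀] at e
      rw [← SchTorsor.act_assoc, comp_lift_assoc, ← SchTorsor.act_assoc] at e
      rw [← SchTorsor.act_free hU.1 e]
      exact hFW1 f w
    have hone : lift g (snd V' V') ≫ act = fst V' V' := by
      rw [← cancel_mono j', hact', hg, hg₀]
    refine ⟨lift g (snd V' V'), ?_, ?_⟩
    · refine AlgGrp.Action.hom_ext_lift₂ fun T a v => ?_
      rw [Category.comp_id, ← Category.assoc, comp_lift, comp_lift, lift_snd, lift_snd]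
      refine CartesianMonoidalCategory.hom_ext _ _ ?_ (by simp)
      rw [lift_fst, lift_fst, ← cancel_mono Fi']
      refine SchTorsor.act_free hU.1 (y := v ≫ j') ?_
      show lift ((_ ≫ g) ≫ Fi') _ ≫ _ = _
      rw [Category.assoc, hg, ← hact']
      have h3 := congrArg (lift (lift a v ≫ act) v ≫ ·) hg₀
      simp only [← Category.assoc, comp_lift, lift_fst, lift_snd] at h3
      exact h3
    · refine CartesianMonoidalCategory.hom_ext _ _ ?_ (by simp)
      rw [Category.assoc, lift_fst, Category.id_comp]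
      exact hone
  haveI : IsFinite K.hom := by rw [← Over.w i]; infer_instance
  haveI : Flat K.hom := inferInstance
  haveI : IsAffineHom (Red.bc s K).hom := MorphismProperty.pullback_snd K.hom s (inferInstanceAs (IsAffineHom K.hom))
  haveI : Flat (Red.bc s K).hom := MorphismProperty.pullback_snd K.hom s ‹_›
  obtain ⟨hV₁, hV₂, hV₃⟩ := torsor_props hV
  have hloc : NonAbH1.IsLocallyTrivialFor Scheme.fpqcPrecoverage V' := by
    let T : Over X := V ⊗ FW
    haveI : Surjective (fst V FW).left := MorphismProperty.pullback_fst V.hom FW.hom ‹_›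
    haveI : Flat (fst V FW).left := MorphismProperty.pullback_fst V.hom FW.hom ‹_›
    haveI : QuasiCompact (fst V FW).left := MorphismProperty.pullback_fst V.hom FW.hom ‹_›
    have hT : (fst V FW).left ≫ V.hom = T.hom := Over.w _
    haveI : Surjective T.hom := hT ▸ inferInstance
    haveI : Flat T.hom := hT ▸ inferInstance
    haveI : QuasiCompact T.hom := hT ▸ inferInstance
    obtain ⟨σ, -⟩ := (hV' T (lift (snd V FW ≫ Fδ)⁻¹ (fst V FW ≫ j) ≫ aU.act)).mpr fun T' t w => by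
      obtain ⟨g, hg⟩ := hFW2 (t ≫ snd V FW) w
      refine ⟨lift g (t ≫ fst V FW) ≫ b.act, ?_⟩
      rw [hpts, hg, comp_lift_assoc, ← SchTorsor.act_assoc, GrpObj.comp_inv, Category.assoc, Category.assoc]
    exact ⟨_, FpqcDescLib.isCovering_of_quasiCompact T.hom, by rintro S' f ⟨⟩; exact ⟨σ.left, Over.w σ⟩⟩
  refine ⟨K', str, i', hhom, hi', V', j', b', hj', ⟨hpseudo, hloc⟩, ?_, (hV' _ u).mpr fun T t w => ?_, fun hiso => ?_⟩
  · refine AlgGrp.Action.hom_ext_lift₂ fun T a v => ?_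
    rw [← Category.assoc, lift_whiskerLeft_assoc, AlgGrp.Action.lift_restrict_act]
    exact hact' a v
  · let A : Over (Spec (CommRingCat.of k)) := Over.mk t.left
    let f : T ⟶ at' x A := Over.homMk (𝟙 _) (by
      show 𝟙 _ ≫ t.left ≫ x = T.hom
      rw [Category.id_comp]; exact Over.w t)
    let f' : at' x A ⟶ T := Over.homMk (𝟙 _) (by
      show 𝟙 _ ≫ T.hom = t.left ≫ x
      rw [Category.id_comp]; exact (Over.w t).symm)
    obtain ⟨w₀, hw₀⟩ := exists_up hx (f' ≫ w)
    have h1 := ((hW (w₀ ≫ δ)).mp ⟨w₀, rfl⟩).comp f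
    have e1 : f ≫ f' = 𝟙 T := Over.OverMorphism.ext (Category.id_comp _)
    have e2 : f ≫ toPt x A = t := Over.OverMorphism.ext (Category.id_comp _)
    rw [comp_lift_assoc, reassoc_of% e2, ← up_map hx w₀ δ, hw₀, Category.assoc, reassoc_of% e1] at h1
    exact h1
  · haveI : IsIso Fi' := inferInstanceAs (IsIso ((Over.pullback s).map i'))
    haveI : IsIso j' := SchTorsor.isIso_of_equivariant (a' := aU.restrict Fi') ⟨hpseudo, hloc⟩
      (isPseudoTorsor_restrict_iso Fi' hU.1)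
      j' (AlgGrp.Action.hom_ext_lift₂ fun T a v => by
        rw [← Category.assoc, lift_whiskerLeft_assoc, AlgGrp.Action.lift_restrict_act]
        exact hact' a v)
    let σ : U ⊗ FW ⟶ U := lift (snd U FW ≫ Fδ)⁻¹ (fst U FW) ≫ aU.act
    have h1 := (hV' _ σ).mp ⟨σ ≫ inv j', by simp⟩ (U ⊗ FW) (𝟙 _) (snd U FW)
    rw [Category.id_comp, ← SchTorsor.act_assoc, _root_.mul_inv_cancel, AlgGrp.Action.lift_one_act] at h1
    obtain ⟨c, hc⟩ := Mem.descend (j := j) (s := 𝟙 U) (W := FW) (by rwa [Category.comp_id])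
    exact ⟨c, by rw [← cancel_mono j, Category.assoc, hc, Category.comp_id, Category.id_comp], hc⟩

end Groth.Agent.NoriLib
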